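import Groth.Agent.Lib.BMTheory.PiecePush
import Mathlib.AlgebraicGeometry.Morphisms.Proper

/-!
Maps between reduced closures of points along a proper morphism, and push-forward data of groups of
points.
-/

set_option autoImplicit false
set_option linter.unusedSectionVars false

universe u

open AlgebraicGeometry CategoryTheory CategoryTheory.Limits Opposite TopologicalSpace Topology

namespace Groth.Agent.Lib.BMTheory

open BMCoh

variable {V : ObjectProperty Scheme.{u}} [IsConstructible V]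

/-- The restriction of a morphism to an open, between objects. -/
noncomputable def restrictMor {A B : Obj V} (g : A.scheme ⟶ B.scheme) (W : B.scheme.Opens) :
    (A.res (g ⁻¹ᵁ W)).scheme ⟶ (B.res W).scheme := g ∣_ W

instance isProper_restrictMor {A B : Obj V} (g : A.scheme ⟶ B.scheme) [IsProper g]
    (W : B.scheme.Opens) : IsProper (restrictMor g W) :=
  (inferInstance : IsProper (g ∣_ W))

/-- Restrictions of a morphism to nested opens form a cartesian square. -/
theorem isPullback_restrict_le {A B : Scheme.{u}} (f : A ⟶ B) {O O' : B.Opens} (h : O' ≤ O)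
    (h' : f ⁻¹ᵁ O' ≤ f ⁻¹ᵁ O) :
    IsPullback (A.homOfLE h') (f ∣_ O') (f ∣_ O) (B.homOfLE h) := by
  refine IsPullback.of_right (h₁₂ := (f ⁻¹ᵁ O).ι) (h₂₂ := O.ι) (v₁₃ := f) ?_ ?_
    (isPullback_morphismRestrict f O).flip
  · rw [Scheme.homOfLE_ι, Scheme.homOfLE_ι]
    exact (isPullback_morphismRestrict f O').flip
  · rw [← cancel_mono O.ι, Category.assoc, Category.assoc, morphismRestrict_ι,
      Scheme.homOfLE_ι, Scheme.homOfLE_ι_assoc, morphismRestrict_ι]

/-- A proper map does not increase the dimension of a point. -/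
theorem pdim_map_le {Y X : Obj V} (f : Y.scheme ⟶ X.scheme) [IsProper f] :
    ∀ (k : ℕ) (q : Y.scheme), WeilCoh.pdim X.scheme (f q) = k → k ≤ WeilCoh.pdim Y.scheme q := by
  intro k
  induction k with
  | zero => exact fun q _ => Nat.zero_le _
  | succ k ih =>
    intro q hq
    obtain ⟨z, hz, hzk⟩ := exists_specializes_pdim_eq X (f q) (k := k) (by omega)
    obtain ⟨q', hq', rfl⟩ := f.isClosedMap.specializingMap hz
    have hne : q ≠ q' := fun e => by subst e; omega
    have := ih q' hzk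
    have := pdim_lt_of_specializes Y hq' hne
    omega

section

variable {Y X : Obj V} (φ : Y.scheme ⟶ X.scheme) (y : Y.scheme) (x : X.scheme) (hyx : φ y = x)

include hyx in
theorem exists_ptMap : ∃ g : (Y.ptSub y).scheme ⟶ (X.ptSub x).scheme,
    g ≫ X.ptSubι x = Y.ptSubι y ≫ φ := by
  refine H75.RedKer.exists_lift _ _ ?_
  rw [Scheme.Hom.comp_base, TopCat.coe_comp, Set.range_comp, range_ptSubι, range_ptSubι, ← hyx,
    ← Set.image_singleton]
  exact image_closure_subset_closure_image φ.continuous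

variable [IsProper φ] {g : (Y.ptSub y).scheme ⟶ (X.ptSub x).scheme}
  (hg : g ≫ X.ptSubι x = Y.ptSubι y ≫ φ)

include hg in
theorem isProper_ptMap : IsProper g := by
  have : IsProper (g ≫ X.ptSubι x) := hg ▸ inferInstance
  exact IsProper.of_comp g (X.ptSubι x)

include hg hyx in
theorem ptMap_genPt {p : (Y.ptSub y).scheme} (hp : Y.ptSubι y p = y) :
    X.ptSubι x (g p) = x := by
  rw [← Scheme.Hom.comp_apply, hg, Scheme.Hom.comp_apply, hp, hyx]

variable (hd : relCodim (Y.ptSub y).scheme (X.ptSub x).scheme = 0)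

include hg hd in
theorem eq_genPt_of_map {p q : (Y.ptSub y).scheme} (hp : Y.ptSubι y p = y) (hpq : p ⤳ q)
    (hq : X.ptSubι x (g q) = x) : p = q := by
  by_contra hne
  have := isProper_ptMap φ y x hg
  have h1 := pdim_map_le g _ q rfl
  have h2 := pdim_lt_of_specializes (Y.ptSub y) hpq hne
  have h3 := pdim_of_isClosedImmersion (X.ptSubι x) (g q)
  have h4 := pdim_of_isClosedImmersion (Y.ptSubι y) p
  rw [hq] at h3
  rw [hp] at h4
  have h5 := dim_ptSub X x
  have h6 := dim_ptSub Y y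
  unfold relCodim at hd
  omega

include hyx hg in
theorem nonempty_preimage (W' : ptIdx X x) :
    ((g ⁻¹ᵁ W'.1 : (Y.ptSub y).scheme.Opens) : Set (Y.ptSub y).scheme).Nonempty := by
  obtain ⟨p, hp, -⟩ := exists_genPt Y y
  obtain ⟨p', hp', hgen'⟩ := exists_genPt X x
  refine ⟨p, ?_⟩
  have e : g p = p' :=
    (X.ptSubι x).isEmbedding.injective ((ptMap_genPt φ y x hyx hg hp).trans hp'.symm)
  change g p ∈ W'.1
  rw [e]
  exact genPt_mem W'.2.1 hgen'

/-- The preimage of an open of the closure of `x`. -/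
noncomputable abbrev preIdx (W' : ptIdx X x) : ptIdx Y y :=
  ptOfNonempty Y y (g ⁻¹ᵁ W'.1) (nonempty_preimage φ y x hyx hg W')

include hg hd in
/-- Small opens of the closure of `x` have small preimages. -/
theorem exists_preimage_le (W : ptIdx Y y) :
    ∃ W' : ptIdx X x, g ⁻¹ᵁ W'.1 ≤ W.1 := by
  have := isProper_ptMap φ y x hg
  obtain ⟨p, hp, hgen⟩ := exists_genPt Y y
  obtain ⟨p', hp', hgen'⟩ := exists_genPt X x
  let C : Set (X.ptSub x).scheme := g '' (W.1 : Set (Y.ptSub y).scheme)ᶜ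
  have hC : IsClosed C := g.isClosedMap _ W.1.isOpen.isClosed_compl
  have hp'C : p' ∉ C := by
    rintro ⟨q, hq, e⟩
    have hpq : p = q := eq_genPt_of_map φ y x hg hd hp (hgen q) (by rw [e, hp'])
    exact hq (hpq ▸ genPt_mem W.2.1 hgen)
  exact ⟨ptOfNonempty X x ⟨Cᶜ, hC.isOpen_compl⟩ ⟨p', hp'C⟩,
    fun q hq => by_contra fun hn => hq ⟨q, hn, rfl⟩⟩

include hd in
theorem relCodim_res (W : ptIdx Y y) (W' : ptIdx X x) :
    relCodim ((Y.ptSub y).res W.1).scheme ((X.ptSub x).res W'.1).scheme = 0 := by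
  have h1 : WeilCoh.dim ((Y.ptSub y).res W.1).scheme = WeilCoh.dim (Y.ptSub y).scheme := W.2.2
  have h2 : WeilCoh.dim ((X.ptSub x).res W'.1).scheme = WeilCoh.dim (X.ptSub x).scheme := W'.2.2
  unfold relCodim at hd ⊢
  omega

end

variable {R : Type u} [CommRing R] {A : Coefs R} (T : PreTheory V R A) (M : A.Cat)
  {Y X : Obj V} (φ : Y.scheme ⟶ X.scheme) [IsProper φ] (y : Y.scheme) (x : X.scheme)

/-- Push-forward data of points are computed on preimages. -/
theorem ptPush_cpt_ι (L : T.PtPush φ y x) {g : (Y.ptSub y).scheme ⟶ (X.ptSub x).scheme}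
    (hg : g ≫ X.ptSubι x = Y.ptSubι y ≫ φ) [IsProper g] (W' : ptIdx X x) {i n : ℤ}
    (hi : i = i + 2 * relCodim ((Y.ptSub y).res (g ⁻¹ᵁ W'.1)).scheme ((X.ptSub x).res W'.1).scheme)
    (hn : n = n + relCodim ((Y.ptSub y).res (g ⁻¹ᵁ W'.1)).scheme ((X.ptSub x).res W'.1).scheme)
    (b : T.gp ((Y.ptSub y).res (g ⁻¹ᵁ W'.1)) M i n) :
    (L.cpt M i n).hom (((T.ptι Y y i n (preIdx φ y x L.maps_pt hg W')).app M).hom b) =
      ((T.ptι X x i n W').app M).hom
        ((T.push (X := (Y.ptSub y).res (g ⁻¹ᵁ W'.1)) (Y := (X.ptSub x).res W'.1)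
          (restrictMor (A := Y.ptSub y) (B := X.ptSub x) g W'.1) M i n i n hi hn).hom b) :=
  ConcreteCategory.congr_hom
    (@PreTheory.PtPush.cpt_spec V _ R _ A T Y X φ y x L M i n (preIdx φ y x L.maps_pt hg W') W'
      (restrictMor (A := Y.ptSub y) (B := X.ptSub x) g W'.1)
      (isProper_restrictMor (A := Y.ptSub y) (B := X.ptSub x) g W'.1)
      (by
        change (g ∣_ W'.1) ≫ W'.1.ι ≫ X.ptSubι x = (g ⁻¹ᵁ W'.1).ι ≫ Y.ptSubι y ≫ φ
        rw [← Category.assoc, morphismRestrict_ι, Category.assoc, hg]) hi hn) b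

theorem subsingleton_ptPush : Subsingleton (T.PtPush φ y x) := by
  refine ⟨fun L L' => ?_⟩
  obtain ⟨g, hg⟩ := exists_ptMap φ y x L.maps_pt
  have := isProper_ptMap φ y x hg
  have h : L.cpt = L'.cpt := by
    funext N i n
    refine ModuleCat.hom_ext (LinearMap.ext fun ξ => ?_)
    obtain ⟨W, b, rfl⟩ := ocolim_exists_rep T N i n ξ
    obtain ⟨W', hW'⟩ := exists_preimage_le φ y x hg L.codim_eq W
    rw [← ι_rle_apply T N i n (U' := preIdx φ y x L.maps_pt hg W') hW' b]
    have hc := relCodim_res y x L.codim_eq (preIdx φ y x L.maps_pt hg W') W'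
    have hi : i = i + 2 * relCodim ((Y.ptSub y).res (g ⁻¹ᵁ W'.1)).scheme
        ((X.ptSub x).res W'.1).scheme := by
      rw [show relCodim ((Y.ptSub y).res (g ⁻¹ᵁ W'.1)).scheme
        ((X.ptSub x).res W'.1).scheme = 0 from hc]; ring
    have hn : n = n + relCodim ((Y.ptSub y).res (g ⁻¹ᵁ W'.1)).scheme
        ((X.ptSub x).res W'.1).scheme := by
      rw [show relCodim ((Y.ptSub y).res (g ⁻¹ᵁ W'.1)).scheme
        ((X.ptSub x).res W'.1).scheme = 0 from hc]; ring
    exact (ptPush_cpt_ι T N φ y x L hg W' hi hn _).trans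
      (ptPush_cpt_ι T N φ y x L' hg W' hi hn _).symm
  cases L; cases L'; cases h; rfl

theorem push_bijective_of_isIso {A' B' : Obj V} (f : A'.scheme ⟶ B'.scheme) [IsIso f]
    (h : relCodim A'.scheme B'.scheme = 0) {i n : ℤ}
    (hi : i = i + 2 * relCodim A'.scheme B'.scheme) (hn : n = n + relCodim A'.scheme B'.scheme) :
    Function.Bijective (T.push f M i n i n hi hn).hom := by
  have h' : relCodim B'.scheme A'.scheme = 0 := by simp only [relCodim] at h ⊢; omega
  have hi' : i = i + 2 * relCodim B'.scheme A'.scheme := by rw [h']; ring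
  have hn' : n = n + relCodim B'.scheme A'.scheme := by rw [h']; ring
  have e1 : ∀ a, (T.push (inv f) M i n i n hi' hn').hom ((T.push f M i n i n hi hn).hom a) = a := by
    intro a
    have := T.push_comp f (inv f) M i n i n i n hi hn hi' hn'
      (by simp [relCodim]) (by simp [relCodim])
    rw [push_congr T M (IsIso.hom_inv_id f), T.push_id] at this
    exact ConcreteCategory.congr_hom this a
  have e2 : ∀ b, (T.push f M i n i n hi hn).hom ((T.push (inv f) M i n i n hi' hn').hom b) = b := by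
    intro b
    have := T.push_comp (inv f) f M i n i n i n hi' hn' hi hn
      (by simp [relCodim]) (by simp [relCodim])
    rw [push_congr T M (IsIso.inv_hom_id f), T.push_id] at this
    exact ConcreteCategory.congr_hom this b
  exact ⟨Function.LeftInverse.injective e1, Function.RightInverse.surjective e2⟩

/-- A push-forward datum along a map that is an isomorphism over a nonempty open is bijective. -/
theorem ptPush_bijective (L : T.PtPush φ y x) {g : (Y.ptSub y).scheme ⟶ (X.ptSub x).scheme}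
    (hg : g ≫ X.ptSubι x = Y.ptSubι y ≫ φ) (U : ptIdx X x) [IsIso (g ∣_ U.1)] (i n : ℤ) :
    Function.Bijective (L.cpt M i n).hom := by
  have := isProper_ptMap φ y x hg
  have hbij : ∀ (W' : ptIdx X x), W'.1 ≤ U.1 →
      ∀ (hi : i = i + 2 * relCodim ((Y.ptSub y).res (g ⁻¹ᵁ W'.1)).scheme
          ((X.ptSub x).res W'.1).scheme)
        (hn : n = n + relCodim ((Y.ptSub y).res (g ⁻¹ᵁ W'.1)).scheme
          ((X.ptSub x).res W'.1).scheme),
      Function.Bijective (T.push (X := (Y.ptSub y).res (g ⁻¹ᵁ W'.1))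
        (Y := (X.ptSub x).res W'.1) (restrictMor (A := Y.ptSub y) (B := X.ptSub x) g W'.1) M i n i n hi hn).hom := by
    intro W' hle hi hn
    have : IsIso (restrictMor (A := Y.ptSub y) (B := X.ptSub x) g W'.1) :=
      (MorphismProperty.isomorphisms Scheme.{u}).of_isPullback
        (isPullback_restrict_le g hle (fun q hq => hle hq)) (inferInstanceAs (IsIso (g ∣_ U.1)))
    exact push_bijective_of_isIso T M (A' := (Y.ptSub y).res (g ⁻¹ᵁ W'.1))
      (B' := (X.ptSub x).res W'.1) (restrictMor (A := Y.ptSub y) (B := X.ptSub x) g W'.1)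
      (relCodim_res y x L.codim_eq (preIdx φ y x L.maps_pt hg W') W') hi hn
  have hz : ∀ W' : ptIdx X x, relCodim ((Y.ptSub y).res (g ⁻¹ᵁ W'.1)).scheme
      ((X.ptSub x).res W'.1).scheme = 0 := fun W' =>
    relCodim_res y x L.codim_eq (preIdx φ y x L.maps_pt hg W') W'
  constructor
  · refine (injective_iff_map_eq_zero _).2 fun ξ hξ => ?_
    obtain ⟨W, b, rfl⟩ := ocolim_exists_rep T M i n ξ
    obtain ⟨W₀, hW₀⟩ := exists_preimage_le φ y x hg L.codim_eq W
    obtain ⟨W₁, h0, hU⟩ := Directed.dir W₀ U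
    have hle : (preIdx φ y x L.maps_pt hg W₁).1 ≤ W.1 := fun q hq => hW₀ (h0 hq)
    rw [← ι_rle_apply T M i n hle b] at hξ ⊢
    have hi₁ : i = i + 2 * relCodim ((Y.ptSub y).res (g ⁻¹ᵁ W₁.1)).scheme
        ((X.ptSub x).res W₁.1).scheme := by rw [hz W₁]; ring
    have hn₁ : n = n + relCodim ((Y.ptSub y).res (g ⁻¹ᵁ W₁.1)).scheme
        ((X.ptSub x).res W₁.1).scheme := by rw [hz W₁]; ring
    erw [ptPush_cpt_ι T M φ y x L hg W₁ hi₁ hn₁] at hξ
    obtain ⟨W₂, h2, h20⟩ := (ocolim_eq_zero_iff T M i n _).1 hξ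
    have hi₂ : i = i + 2 * relCodim ((Y.ptSub y).res (g ⁻¹ᵁ W₂.1)).scheme
        ((X.ptSub x).res W₂.1).scheme := by rw [hz W₂]; ring
    have hn₂ : n = n + relCodim ((Y.ptSub y).res (g ⁻¹ᵁ W₂.1)).scheme
        ((X.ptSub x).res W₂.1).scheme := by rw [hz W₂]; ring
    refine (ocolim_eq_zero_iff T M i n _).2 ⟨preIdx φ y x L.maps_pt hg W₂, fun q hq => h2 hq, ?_⟩
    refine (hbij W₂ (h2.trans hU) hi₂ hn₂).1 (Eq.trans ?_ (map_zero _).symm)
    refine Eq.trans ?_ h20
    exact (ConcreteCategory.congr_hom (T.push_pull (X := (Y.ptSub y).res (g ⁻¹ᵁ W₁.1))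
      (Y := (X.ptSub x).res W₁.1) (X' := (Y.ptSub y).res (g ⁻¹ᵁ W₂.1))
      (Y' := (X.ptSub x).res W₂.1) (restrictMor (A := Y.ptSub y) (B := X.ptSub x) g W₁.1) (restrictMor (A := Y.ptSub y) (B := X.ptSub x) g W₂.1) (rle h2)
      (rle (U := preIdx φ y x L.maps_pt hg W₁) (U' := preIdx φ y x L.maps_pt hg W₂)
        fun q hq => h2 hq)
      (isPullback_restrict_le g h2 (fun q hq => h2 hq)) M i n i n hi₁ hn₁ hi₂ hn₂) _).symm
  · intro ξ
    obtain ⟨W, b, rfl⟩ := ocolim_exists_rep T M i n ξ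
    obtain ⟨W₁, h0, hU⟩ := Directed.dir W U
    have hi₁ : i = i + 2 * relCodim ((Y.ptSub y).res (g ⁻¹ᵁ W₁.1)).scheme
        ((X.ptSub x).res W₁.1).scheme := by rw [hz W₁]; ring
    have hn₁ : n = n + relCodim ((Y.ptSub y).res (g ⁻¹ᵁ W₁.1)).scheme
        ((X.ptSub x).res W₁.1).scheme := by rw [hz W₁]; ring
    obtain ⟨a, ha⟩ := (hbij W₁ hU hi₁ hn₁).2 ((T.pull (rle h0) M i n).hom b)
    exact ⟨_, ((ptPush_cpt_ι T M φ y x L hg W₁ hi₁ hn₁ a).trans (congrArg _ ha)).trans
      (ι_rle_apply T M i n h0 b)⟩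

end Groth.Agent.Lib.BMTheory
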