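import Groth.Agent.Lib.BMTheory.Generic
import Groth.Agent.Lib.BMTheory.PtMap

/-!
Decompositions cut out by one closed subscheme of codimension `j + 1`, and the comparison of the groups
of `F_(j+1+m)` and `F_j`.
-/

set_option autoImplicit false
set_option linter.unusedSectionVars false

universe u

open AlgebraicGeometry CategoryTheory CategoryTheory.Limits Opposite TopologicalSpace Topology

namespace Groth.Agent.Lib.BMTheory

open BMCoh

variable {V : ObjectProperty Scheme.{u}} [IsConstructible V] {X : Obj V} {j : ℕ}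

/-- A reduced closed subscheme of codimension `j + 1` together with its complement. -/
structure ClStratum (X : Obj V) (j : ℕ) where
  /-- The closed subscheme. -/
  Z : Obj V
  /-- Its immersion. -/
  ι : Z.scheme ⟶ X.scheme
  closedImm : IsClosedImmersion ι
  reduced : IsReduced Z.scheme
  dim_eq : WeilCoh.dim Z.scheme + (j + 1) = WeilCoh.dim X.scheme
  /-- The open complement. -/
  U : Idx X (ContainsFj X j)
  U_eq : (U.1 : Set X.scheme) = (Set.range ι)ᶜ

theorem exists_clStratum (hj : j + 1 ≤ WeilCoh.dim X.scheme) (U : Idx X (ContainsFj X j)) :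
    ∃ S : ClStratum X j, S.U.1 ≤ U.1 := by
  have hne : Nonempty ↥X.scheme := by
    by_contra h
    have := not_nonempty_iff.1 h
    rw [dim_of_isEmpty] at hj
    omega
  obtain ⟨top, htop⟩ := exists_pdim_eq_dim X
  obtain ⟨x₀, -, hx₀⟩ := exists_specializes_pdim_eq X top
    (k := WeilCoh.dim X.scheme - (j + 1)) (by omega)
  let C : Closeds ↥X.scheme :=
    ⟨(U.1 : Set X.scheme)ᶜ ∪ closure {x₀}, U.1.isOpen.isClosed_compl.union isClosed_closure⟩
  let I := Scheme.IdealSheafData.vanishingIdeal (X := X.scheme) C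
  let Z : Obj V := ⟨I.subscheme, IsConstructible.of_isClosedImmersion I.subschemeι
    (h := inferInstance) X.mem⟩
  have hr : Set.range I.subschemeι = (C : Set X.scheme) := by
    rw [Scheme.IdealSheafData.range_subschemeι, Scheme.IdealSheafData.coe_support_vanishingIdeal]
  have hcd : ∀ y ∈ (C : Set X.scheme), j < WeilCoh.codim X.scheme y := by
    rintro y (hy | hy)
    · by_contra h; exact hy (U.2.1 y (not_lt.1 h))
    · have := codim_le_of_specializes X (specializes_iff_mem_closure.2 hy)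
      have := codim_add_pdim X x₀
      omega
  have hdim : WeilCoh.dim Z.scheme = WeilCoh.dim X.scheme - (j + 1) := by
    refine dim_closed_eq (Z := Z) (X := X) I.subschemeι (fun y hy => ?_) ⟨x₀, ?_, hx₀⟩
    · rw [hr] at hy
      have := hcd y hy
      have := codim_add_pdim X y
      omega
    · rw [hr]; exact Or.inr (subset_closure rfl)
  refine ⟨⟨Z, I.subschemeι, inferInstance, H75.RedSub.isReduced_vanishingIdeal _, by omega,
    fjIdx ⟨(C : Set X.scheme)ᶜ, C.isClosed.isOpen_compl⟩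
      (fun y hy hyC => absurd (hcd y hyC) (not_lt.2 hy)), ?_⟩, fun y hy => ?_⟩
  · change (C : Set X.scheme)ᶜ = _
    rw [hr]
  · by_contra h; exact hy (Or.inl h)

namespace ClStratum

variable (S : ClStratum X j) {m : ℕ}

instance : IsClosedImmersion S.ι := S.closedImm

theorem codim_ι (z : S.Z.scheme) :
    WeilCoh.codim X.scheme (S.ι z) = WeilCoh.codim S.Z.scheme z + (j + 1) := by
  have h1 := pdim_of_isClosedImmersion S.ι z
  have h2 := codim_add_pdim X (S.ι z)
  have h3 := codim_add_pdim S.Z z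
  have h4 := S.dim_eq
  omega

/-- The trace of an open containing `F_(j+1+m)` on the closed subscheme. -/
noncomputable abbrev zIdx (O : Idx X (ContainsFj X (j + 1 + m))) :
    Idx S.Z (ContainsFj S.Z m) :=
  fjIdx (S.ι ⁻¹ᵁ O.1) fun z hz => O.2.1 (S.ι z) (by rw [S.codim_ι]; omega)

theorem relCodim_zIdx (O : Idx X (ContainsFj X (j + 1 + m))) :
    relCodim (S.Z.res (S.zIdx O).1).scheme (X.res O.1).scheme = (j : ℤ) + 1 := by
  have h1 : WeilCoh.dim (S.Z.res (S.zIdx O).1).scheme = WeilCoh.dim S.Z.scheme := (S.zIdx O).2.2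
  have h2 : WeilCoh.dim (X.res O.1).scheme = WeilCoh.dim X.scheme := O.2.2
  have h3 := S.dim_eq
  unfold relCodim
  omega

/-- The decomposition of an open containing the complement. -/
noncomputable abbrev D (O : Idx X (ContainsFj X (j + 1 + m))) (h : S.U.1 ≤ O.1) :
    Decomp (X.res O.1) where
  Z := S.Z.res (S.zIdx O).1
  U := X.res S.U.1
  i := restrictMor S.ι O.1
  closedImm := MorphismProperty.of_isPullback (isPullback_morphismRestrict _ O.1).flip
    (inferInstance : IsClosedImmersion S.ι)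
  j := X.resLE h (S.U.2.2.trans O.2.2.symm)
  range_eq := by
    refine (Stratum.range_homOfLE h).trans ?_
    rw [S.U_eq, Set.preimage_compl]
    congr 1
    have := Set.preimage_image_eq (Set.range (S.ι ∣_ O.1)) O.1.ι.isOpenEmbedding.injective
    refine Eq.trans ?_ this
    rw [← Set.range_comp, ← TopCat.coe_comp, ← Scheme.Hom.comp_base, morphismRestrict_ι,
      Scheme.Hom.comp_base, TopCat.coe_comp, Set.range_comp, Scheme.Opens.range_ι]
    change _ = O.1.ι ⁻¹' (S.ι '' (S.ι ⁻¹' O.1))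
    rw [Set.image_preimage_eq_range_inter]
    exact Set.ext fun y => ⟨fun hy => ⟨hy, y.2⟩, fun hy => hy.1⟩

/-- Opens of the closed subscheme containing `F_m` are traces of opens containing `F_(j+1+m)`. -/
theorem exists_open_le (O : Idx X (ContainsFj X (j + 1 + m))) (h : S.U.1 ≤ O.1)
    (W : Idx S.Z (ContainsFj S.Z m)) :
    ∃ (O' : Idx X (ContainsFj X (j + 1 + m))), S.U.1 ≤ O'.1 ∧ O'.1 ≤ O.1 ∧
      (S.zIdx O').1 ≤ W.1 := by
  let B : X.scheme.Opens := ⟨(S.ι '' (W.1 : Set S.Z.scheme)ᶜ)ᶜ,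
    (S.ι.isClosedEmbedding.isClosedMap _ W.1.isOpen.isClosed_compl).isOpen_compl⟩
  refine ⟨fjIdx (O.1 ⊓ B) (fun y hy => ⟨O.2.1 y hy, ?_⟩), fun y hy => ⟨h hy, ?_⟩, inf_le_left,
    fun z hz => by_contra fun hn => hz.2 ⟨z, hn, rfl⟩⟩
  · rintro ⟨z, hz, rfl⟩
    rw [S.codim_ι] at hy
    exact hz (W.2.1 z (by omega))
  · rintro ⟨z, -, rfl⟩
    have hy' : S.ι z ∈ (S.U.1 : Set X.scheme) := hy
    rw [S.U_eq] at hy'
    exact hy' ⟨z, rfl⟩

variable {R : Type u} [CommRing R] {A : Coefs R} (T : PreTheory V R A) (M : A.Cat)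

theorem res_restrict {O O' : Idx X (ContainsFj X (j + 1 + m))} (h : S.U.1 ≤ O.1)
    (h' : S.U.1 ≤ O'.1) (hle : O'.1 ≤ O.1) {i n i' n' : ℤ}
    (hi : i' = i + 1 - 2 * (S.D O h).codim) (hn : n' = n - (S.D O h).codim)
    (hi' : i' = i + 1 - 2 * (S.D O' h').codim) (hn' : n' = n - (S.D O' h').codim)
    (b : T.gp (X.res S.U.1) M i n) :
    (T.pull (rle (U := S.zIdx O) (U' := S.zIdx O') fun z hz => hle hz) M i' n').hom
        ((T.res (S.D O h) M i n i' n' hi hn).hom b) =
      (T.res (S.D O' h') M i n i' n' hi' hn').hom b := by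
  have hw := (isPullback_restrict_le S.ι hle (fun z hz => hle hz)).w
  have e := ConcreteCategory.congr_hom (T.res_pull (S.D O h) (S.D O' h') (rle hle)
    (rle (U := S.zIdx O) (U' := S.zIdx O') fun z hz => hle hz) (𝟙 (X.res S.U.1)) hw
    (res_hom_ext _ _ (by simp [rle, Obj.resLE]) (by simp [rle, Obj.resLE]))
    M i n i' n' hi hn hi' hn') b
  refine e.trans ?_
  change (T.res (S.D O' h') M i n i' n' hi' hn').hom ((T.pull (𝟙 (X.res S.U.1)) M i n).hom b) = _
  rw [pull_id]
  rfl

theorem push_restrict {O O' : Idx X (ContainsFj X (j + 1 + m))} (h : S.U.1 ≤ O.1)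
    (h' : S.U.1 ≤ O'.1) (hle : O'.1 ≤ O.1) {i n p q : ℤ}
    (hp : p = i + 2 * relCodim (S.D O h).Z.scheme (X.res O.1).scheme)
    (hq : q = n + relCodim (S.D O h).Z.scheme (X.res O.1).scheme)
    (hp' : p = i + 2 * relCodim (S.D O' h').Z.scheme (X.res O'.1).scheme)
    (hq' : q = n + relCodim (S.D O' h').Z.scheme (X.res O'.1).scheme)
    (r : T.gp (S.D O h).Z M i n) :
    (T.pull (rle hle) M p q).hom ((T.push (S.D O h).i M i n p q hp hq).hom r) =
      (T.push (S.D O' h').i M i n p q hp' hq').hom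
        ((T.pull (rle (U := S.zIdx O) (U' := S.zIdx O') fun z hz => hle hz) M i n).hom r) :=
  ConcreteCategory.congr_hom (T.push_pull (S.D O h).i (S.D O' h').i (rle hle)
    (rle (U := S.zIdx O) (U' := S.zIdx O') fun z hz => hle hz)
    (isPullback_restrict_le S.ι hle (fun z hz => hle hz)) M i n p q hp hq hp' hq') r

end ClStratum

variable {R : Type u} [CommRing R] {A : Coefs R} (T : PreTheory V R A) (M : A.Cat)

theorem fjRes_bijective_of_closed_isZero (m : ℕ) (i n : ℤ)
    (hZ : ∀ S : ClStratum X j,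
      IsZero (T.fjGp S.Z m M (i - 2 * ((j : ℤ) + 1)) (n - ((j : ℤ) + 1))) ∧
      IsZero (T.fjGp S.Z m M (i + 1 - 2 * ((j : ℤ) + 1)) (n - ((j : ℤ) + 1)))) :
    Function.Bijective
      ((T.fjRes X ((Nat.le_succ j).trans (Nat.le_add_right (j + 1) m)) i n).app M).hom := by
  rcases Nat.lt_or_ge (WeilCoh.dim X.scheme) (j + 1) with hd | hd
  · have h1 := toFj_bijective_of_dim_le T M (X := X) (k := j + 1 + m) (by omega) i n
    have h2 := toFj_bijective_of_dim_le T M (X := X) (k := j) (by omega) i n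
    refine ⟨?_, ?_⟩
    · intro a b hab
      obtain ⟨a', rfl⟩ := h1.2 a
      obtain ⟨b', rfl⟩ := h1.2 b
      rw [toFj_fjRes, toFj_fjRes] at hab
      rw [h2.1 hab]
    · intro a
      obtain ⟨a', rfl⟩ := h2.2 a
      exact ⟨_, toFj_fjRes T M _ a'⟩
  constructor
  · refine (injective_iff_map_eq_zero _).2 fun a ha => ?_
    obtain ⟨O, c, rfl⟩ := ocolim_exists_rep T M i n a
    rw [ι_fjRes] at ha
    obtain ⟨U, hU, hU0⟩ := (ocolim_eq_zero_iff T M i n (P := ContainsFj X j)
      (U := ⟨O.1, containsFj_mono X ((Nat.le_succ j).trans (Nat.le_add_right (j + 1) m)) _ O.2.1,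
        O.2.2⟩) c).1 ha
    obtain ⟨S, hS⟩ := exists_clStratum hd U
    have h : S.U.1 ≤ O.1 := hS.trans hU
    have hc : (T.pull (S.D O h).j M i n).hom c = 0 := by
      have e := pull_rle_rle T M hU hS c
      rw [hU0, map_zero] at e
      exact e.symm
    have hrc : ∀ (O' : Idx X (ContainsFj X (j + 1 + m))) (h' : S.U.1 ≤ O'.1),
        relCodim (S.D O' h').Z.scheme (X.res O'.1).scheme = (j : ℤ) + 1 :=
      fun O' _ => S.relCodim_zIdx O'
    have hp : ∀ (O' : Idx X (ContainsFj X (j + 1 + m))) (h' : S.U.1 ≤ O'.1),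
        i = i - 2 * ((j : ℤ) + 1) + 2 * relCodim (S.D O' h').Z.scheme (X.res O'.1).scheme :=
      fun O' h' => by rw [hrc O' h']; ring
    have hq : ∀ (O' : Idx X (ContainsFj X (j + 1 + m))) (h' : S.U.1 ≤ O'.1),
        n = n - ((j : ℤ) + 1) + relCodim (S.D O' h').Z.scheme (X.res O'.1).scheme :=
      fun O' h' => by rw [hrc O' h']; ring
    obtain ⟨r, rfl⟩ := (pull_eq_zero_iff T M (S.D O h) (hp O h) (hq O h) c).1 hc
    obtain ⟨W, hW, hW0⟩ := (ocolim_eq_zero_iff T M _ _ r).1
      (@Subsingleton.elim _ (ModuleCat.subsingleton_of_isZero (hZ S).1)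
        (((T.fjι S.Z m _ _ (S.zIdx O)).app M).hom r) 0)
    obtain ⟨O', h', hle, hW'⟩ := S.exists_open_le O h W
    refine (ocolim_eq_zero_iff T M i n _).2 ⟨O', hle, ?_⟩
    rw [S.push_restrict T M h h' hle (hp O h) (hq O h) (hp O' h') (hq O' h')]
    have e := pull_rle_rle T M hW hW' r
    rw [hW0, map_zero] at e
    erw [← e]
    exact map_zero _
  · intro a
    obtain ⟨U, b, rfl⟩ := ocolim_exists_rep T M i n a
    obtain ⟨S, hS⟩ := exists_clStratum hd U
    let O : Idx X (ContainsFj X (j + 1 + m)) := fjIdx ⊤ (containsFj_top X _)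
    have h : S.U.1 ≤ O.1 := le_top
    have hc : ∀ (O' : Idx X (ContainsFj X (j + 1 + m))) (h' : S.U.1 ≤ O'.1),
        (S.D O' h').codim = (j : ℤ) + 1 := fun O' _ => S.relCodim_zIdx O'
    have hi : ∀ (O' : Idx X (ContainsFj X (j + 1 + m))) (h' : S.U.1 ≤ O'.1),
        i + 1 - 2 * ((j : ℤ) + 1) = i + 1 - 2 * (S.D O' h').codim :=
      fun O' h' => by rw [hc O' h']
    have hn : ∀ (O' : Idx X (ContainsFj X (j + 1 + m))) (h' : S.U.1 ≤ O'.1),
        n - ((j : ℤ) + 1) = n - (S.D O' h').codim := fun O' h' => by rw [hc O' h']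
    let b' := (T.pull (rle hS) M i n).hom b
    let r := (T.res (S.D O h) M i n _ _ (hi O h) (hn O h)).hom b'
    obtain ⟨W, hW, hW0⟩ := (ocolim_eq_zero_iff T M _ _ r).1
      (@Subsingleton.elim _ (ModuleCat.subsingleton_of_isZero (hZ S).2)
        (((T.fjι S.Z m _ _ (S.zIdx O)).app M).hom r) 0)
    obtain ⟨O', h', hle, hW'⟩ := S.exists_open_le O h W
    have h0 : (T.res (S.D O' h') M i n _ _ (hi O' h') (hn O' h')).hom b' = 0 := by
      rw [← S.res_restrict T M h h' hle (hi O h) (hn O h) (hi O' h') (hn O' h') b']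
      have e := pull_rle_rle T M hW hW' r
      rw [hW0, map_zero] at e
      exact e.symm
    obtain ⟨c, hc'⟩ := (res_eq_zero_iff T M (S.D O' h') (hi O' h') (hn O' h') b').1 h0
    refine ⟨((T.fjι X (j + 1 + m) i n O').app M).hom c, ?_⟩
    rw [ι_fjRes]
    refine Eq.trans ?_ (ι_rle_apply T M i n hS b)
    refine (ι_rle_apply T M i n (P := ContainsFj X j)
      (U := ⟨O'.1, containsFj_mono X ((Nat.le_succ j).trans (Nat.le_add_right (j + 1) m)) _ O'.2.1,
        O'.2.2⟩) (U' := S.U) h' c).symm.trans ?_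
    exact congrArg _ hc'

end Groth.Agent.Lib.BMTheory
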