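import Groth.Agent.Lib.BMTheory.Dim
import Mathlib.CategoryTheory.Filtered.Basic
import Mathlib.CategoryTheory.Limits.Preserves.Filtered
import Mathlib.CategoryTheory.Limits.ConcreteCategory.Basic
import Mathlib.Algebra.Category.ModuleCat.FilteredColimits

/-!
The open-system colimits of a pre-theory, computed on elements.
-/

set_option autoImplicit false
set_option linter.unusedSectionVars false

universe u

open AlgebraicGeometry CategoryTheory CategoryTheory.Limits Opposite TopologicalSpace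

namespace Groth.Agent.Lib.BMTheory

open BMCoh

variable {V : ObjectProperty Scheme.{u}} [IsConstructible V]
variable {R : Type u} [CommRing R] {A : Coefs R} (T : PreTheory V R A)

/-- The index family is nonempty and stable under intersection up to refinement. -/
class Directed (X : Obj V) (P : X.scheme.Opens → Prop) : Prop where
  nonempty : Nonempty (Idx X P)
  dir : ∀ U U' : Idx X P, ∃ U'' : Idx X P, U''.1 ≤ U.1 ∧ U''.1 ≤ U'.1

theorem containsFj_top (X : Obj V) (j : ℕ) : ContainsFj X j ⊤ := fun _ _ => trivial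

/-- The member of the index family of `F_j` given by an open containing `F_j`. -/
@[reducible] def fjIdx {X : Obj V} {j : ℕ} (U : X.scheme.Opens) (h : ContainsFj X j U) :
    Idx X (ContainsFj X j) := ⟨U, h, dim_open_of_containsFj h⟩

instance directed_containsFj (X : Obj V) (j : ℕ) : Directed X (ContainsFj X j) where
  nonempty := ⟨fjIdx ⊤ (containsFj_top X j)⟩
  dir U U' := ⟨fjIdx (U.1 ⊓ U'.1) (fun y hy => ⟨U.2.1 y hy, U'.2.1 y hy⟩), inf_le_left, inf_le_right⟩

theorem genPt_mem {X : Obj V} {x : X.scheme} {W : (X.ptSub x).scheme.Opens}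
    (hW : (W : Set (X.ptSub x).scheme).Nonempty) {p : (X.ptSub x).scheme}
    (hp : ∀ q, p ⤳ q) : p ∈ W := by
  obtain ⟨q, hq⟩ := hW
  exact (hp q).mem_open W.isOpen hq

/-- The member of the index family of a point given by a nonempty open of its closure. -/
def ptOfNonempty (X : Obj V) (x : X.scheme) (W : (X.ptSub x).scheme.Opens)
    (hW : (W : Set (X.ptSub x).scheme).Nonempty) : ptIdx X x :=
  ⟨W, hW, (dim_ptSub_open X x W hW).trans (dim_ptSub X x).symm⟩

instance directed_ptIdx (X : Obj V) (x : X.scheme) :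
    Directed (X.ptSub x) (fun U => (U : Set (X.ptSub x).scheme).Nonempty) where
  nonempty := by
    obtain ⟨p, -, -⟩ := exists_genPt X x
    exact ⟨ptOfNonempty X x ⊤ ⟨p, trivial⟩⟩
  dir U U' := by
    obtain ⟨p, -, hp⟩ := exists_genPt X x
    exact ⟨ptOfNonempty X x (U.1 ⊓ U'.1) ⟨p, genPt_mem U.2.1 hp, genPt_mem U'.2.1 hp⟩,
      inf_le_left, inf_le_right⟩

variable {X : Obj V} {P Q : X.scheme.Opens → Prop}

instance isFiltered_idx [Directed X P] : IsFiltered (Idx X P)ᵒᵖ := by
  have : Nonempty (Idx X P) := Directed.nonempty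
  have : IsCodirectedOrder (Idx X P) := ⟨fun U U' => Directed.dir U U'⟩
  infer_instance

/-- The restriction morphism between members of an index family. -/
noncomputable def rle {U U' : Idx X P} (h : U'.1 ≤ U.1) : X.res U'.1 ⟶ X.res U.1 :=
  X.resLE h (U'.2.2.trans U.2.2.symm)

theorem hom_eq_of_comp_ι {U : X.scheme.Opens} {Y : Obj V} {a b : Y ⟶ X.res U}
    (h : a.hom ≫ U.ι = b.hom ≫ U.ι) : a = b :=
  Hom.ext ((cancel_mono U.ι).1 h)

theorem hom_eq_of_comp {Y Z : Obj V} (f : Y ⟶ Z) {W : Obj V} {a b : W ⟶ Y}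
    (h : a.hom ≫ f.hom = b.hom ≫ f.hom) : a = b :=
  Hom.ext ((cancel_mono f.hom).1 h)

theorem pull_comp {Y₁ Y₂ Y₃ : Obj V} (f : Y₁ ⟶ Y₂) (g : Y₂ ⟶ Y₃) (M : A.Cat) (i n : ℤ) :
    T.pull (f ≫ g) M i n = T.pull g M i n ≫ T.pull f M i n := by
  simp [PreTheory.pull]

theorem pull_pull {Y₁ Y₂ Y₃ : Obj V} (f : Y₁ ⟶ Y₂) (g : Y₂ ⟶ Y₃) (M : A.Cat) (i n : ℤ)
    (a : T.gp Y₃ M i n) :
    (T.pull f M i n).hom ((T.pull g M i n).hom a) = (T.pull (f ≫ g) M i n).hom a := by
  rw [pull_comp]; rfl

theorem pull_id (Y : Obj V) (M : A.Cat) (i n : ℤ) : T.pull (𝟙 Y) M i n = 𝟙 _ := by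
  simp [PreTheory.pull]

theorem pull_bijective {Y Z : Obj V} (f : Y ⟶ Z) [IsIso f] (M : A.Cat) (i n : ℤ) :
    Function.Bijective (T.pull f M i n).hom :=
  ConcreteCategory.bijective_of_isIso (C := ModuleCat.{u} R) (T.pull f M i n)

variable (M : A.Cat) (i n : ℤ)

theorem ι_rle {U U' : Idx X P} (h : U'.1 ≤ U.1) :
    T.pull (rle h) M i n ≫ (T.ocolimι X P i n U').app M = (T.ocolimι X P i n U).app M := by
  have := colimit.w ((idxDiag X P).op ⋙ T.H i n) (homOfLE h : U' ⟶ U).op
  exact congrArg (fun t => NatTrans.app t M) this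

theorem ι_rle_apply {U U' : Idx X P} (h : U'.1 ≤ U.1) (a : T.gp (X.res U.1) M i n) :
    ((T.ocolimι X P i n U').app M).hom ((T.pull (rle h) M i n).hom a) =
      ((T.ocolimι X P i n U).app M).hom a := by
  rw [← ι_rle T M i n h]; rfl

/-- The colimit at a coefficient module is the colimit of the groups. -/
noncomputable def isColimitEval :
    IsColimit (((evaluation A.Cat (ModuleCat.{u} R)).obj M).mapCocone
      (colimit.cocone ((idxDiag X P).op ⋙ T.H i n))) :=
  isColimitOfPreserves _ (colimit.isColimit _)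

theorem ocolim_exists_rep [Directed X P] (a : (T.ocolim X P i n).obj M) :
    ∃ (U : Idx X P) (b : T.gp (X.res U.1) M i n), ((T.ocolimι X P i n U).app M).hom b = a := by
  obtain ⟨U, b, hb⟩ := Concrete.isColimit_exists_rep _ (isColimitEval T M i n (X := X) (P := P)) a
  exact ⟨U.unop, b, hb⟩

theorem ocolim_eq_iff [Directed X P] {U U' : Idx X P} (a : T.gp (X.res U.1) M i n)
    (b : T.gp (X.res U'.1) M i n) :
    ((T.ocolimι X P i n U).app M).hom a = ((T.ocolimι X P i n U').app M).hom b ↔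
      ∃ (U'' : Idx X P) (h : U''.1 ≤ U.1) (h' : U''.1 ≤ U'.1),
        (T.pull (rle h) M i n).hom a = (T.pull (rle h') M i n).hom b := by
  constructor
  · intro h
    obtain ⟨k, f, g, hfg⟩ := Concrete.isColimit_exists_of_rep_eq
      (((idxDiag X P).op ⋙ T.H i n) ⋙ (evaluation A.Cat (ModuleCat.{u} R)).obj M)
      (i := op U) (j := op U') (isColimitEval T M i n) a b h
    exact ⟨k.unop, f.unop.le, g.unop.le, hfg⟩
  · rintro ⟨U'', h, h', e⟩
    rw [← ι_rle_apply T M i n h, e, ι_rle_apply T M i n h']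

theorem ocolim_eq_zero_iff [Directed X P] {U : Idx X P} (a : T.gp (X.res U.1) M i n) :
    ((T.ocolimι X P i n U).app M).hom a = 0 ↔
      ∃ (U' : Idx X P) (h : U'.1 ≤ U.1), (T.pull (rle h) M i n).hom a = 0 := by
  constructor
  · intro h
    obtain ⟨U', h1, h2, e⟩ := (ocolim_eq_iff T M i n (U' := U) a 0).1 (by rw [h, map_zero])
    exact ⟨U', h1, e.trans (map_zero _)⟩
  · rintro ⟨U', h, e⟩
    rw [← ι_rle_apply T M i n h, e, map_zero]

theorem ocolim_hom_ext {N : ModuleCat.{u} R} {f g : (T.ocolim X P i n).obj M ⟶ N}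
    (h : ∀ U : Idx X P, (T.ocolimι X P i n U).app M ≫ f = (T.ocolimι X P i n U).app M ≫ g) :
    f = g :=
  (isColimitEval T M i n).hom_ext fun U => h U.unop

theorem ocolim_hom_ext' {N : ModuleCat.{u} R} {f g : (T.ocolim X P i n).obj M ⟶ N}
    (h : ∀ (U : Idx X P) (a : T.gp (X.res U.1) M i n),
      f.hom (((T.ocolimι X P i n U).app M).hom a) = g.hom (((T.ocolimι X P i n U).app M).hom a)) :
    f = g :=
  ocolim_hom_ext T M i n fun U => ModuleCat.hom_ext (LinearMap.ext (h U))

theorem ι_ocolimMap (h : ∀ U, P U → Q U) (U : Idx X P) (a : T.gp (X.res U.1) M i n) :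
    ((T.ocolimMap X h i n).app M).hom (((T.ocolimι X P i n U).app M).hom a) =
      ((T.ocolimι X Q i n ⟨U.1, h _ U.2.1, U.2.2⟩).app M).hom a := by
  have := congrArg (fun t => NatTrans.app t M)
    (colimit.ι_pre ((idxDiag X Q).op ⋙ T.H i n) (idxIncl X h).op (op U))
  exact ConcreteCategory.congr_hom this a

theorem toFj_apply {j : ℕ} (a : T.gp X M i n) :
    ((T.toFj X j i n).app M).hom a =
      ((T.fjι X j i n (fjIdx ⊤ (containsFj_top X j))).app M).hom
        ((T.pull X.resTop M i n).hom a) := rfl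

theorem ocolim_isZero_iff [Directed X P] :
    IsZero ((T.ocolim X P i n).obj M) ↔ ∀ (U : Idx X P) (a : T.gp (X.res U.1) M i n),
      ((T.ocolimι X P i n U).app M).hom a = 0 := by
  constructor
  · intro h U a
    have := ModuleCat.subsingleton_of_isZero h
    exact Subsingleton.elim _ _
  · intro h
    have : Subsingleton ((T.ocolim X P i n).obj M) :=
      subsingleton_of_forall_eq 0 fun a => by
        obtain ⟨U, b, rfl⟩ := ocolim_exists_rep T M i n a
        exact h U b
    exact ModuleCat.isZero_of_subsingleton _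

end Groth.Agent.Lib.BMTheory
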