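import Groth.Prelude.Def_BMCoh4
import Groth.Agent.Lib.SchTopo.Basic
import Mathlib.AlgebraicGeometry.Morphisms.OpenImmersion

/-!
Dimensions of points of objects of a constructible class: `pdim` is the height of a point for the
specialization order, it is intrinsic under open and closed immersions, and the dimension is the
supremum of the `pdim`s.
-/

set_option autoImplicit false
set_option linter.unusedSectionVars false

universe u

open AlgebraicGeometry CategoryTheory CategoryTheory.Limits TopologicalSpace Topology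

namespace Groth.Agent.Lib.BMTheory

open BMCoh

section Scheme

variable {X Y : Scheme.{u}}

/-- The dimension of a set of points, computed in the specialization order. -/
noncomputable def sd (s : Set Y) : ℕ := ((Order.krullDim ↥s).unbotD 0).toNat

theorem dim_eq_krullDim (X : Scheme.{u}) :
    WeilCoh.dim X = ((Order.krullDim ↥X).unbotD 0).toNat := by
  unfold WeilCoh.dim WeilCoh.natDim
  rw [SchTopo.Basic.topologicalKrullDim_eq_krullDim_scheme]

/-- An order-embedding bijection as an order isomorphism. -/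
noncomputable def orderIsoOfBij {α β : Type*} [LE α] [LE β] (f : α → β)
    (hi : Function.Injective f) (hs : Function.Surjective f)
    (h : ∀ a b, f a ≤ f b ↔ a ≤ b) : α ≃o β where
  toEquiv := Equiv.ofBijective f ⟨hi, hs⟩
  map_rel_iff' {a b} := h a b

/-- A topological embedding of schemes identifies the points with those of its range, as orders. -/
noncomputable def orderIsoRange (f : X ⟶ Y) (hf : IsEmbedding f) : ↥X ≃o ↥(Set.range f) where
  toEquiv := Equiv.ofInjective f hf.injective
  map_rel_iff' {a b} := by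
    change (f b ⤳ f a) ↔ (b ⤳ a)
    exact hf.isInducing.specializes_iff

theorem dim_eq_sd_range (f : X ⟶ Y) (hf : IsEmbedding f) : WeilCoh.dim X = sd (Set.range f) := by
  rw [dim_eq_krullDim, sd, Order.krullDim_eq_of_orderIso (orderIsoRange f hf)]

theorem lt_of_specializes {x y : X} (h : x ⤳ y) (hne : x ≠ y) : y < x :=
  lt_of_le_not_ge h fun h' => hne ((h.antisymm h').eq)

theorem eq_of_le_of_le {x y : X} (h : x ≤ y) (h' : y ≤ x) : x = y :=
  ((Specializes.antisymm (h' : x ⤳ y) (h : y ⤳ x))).eq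

theorem mem_Iic_iff {x y : X} : y ∈ Set.Iic x ↔ y ∈ closure ({x} : Set X) :=
  specializes_iff_mem_closure

theorem Iic_eq_closure (x : X) : (Set.Iic x : Set X) = closure {x} :=
  Set.ext fun _ => mem_Iic_iff

theorem pdim_eq_sd (x : X) : WeilCoh.pdim X x = sd (Set.Iic x) := by
  let I : X.IdealSheafData :=
    Scheme.IdealSheafData.vanishingIdeal ⟨closure ({x} : Set X), isClosed_closure⟩
  have hr : Set.range I.subschemeι = closure ({x} : Set X) := by
    rw [Scheme.IdealSheafData.range_subschemeι, Scheme.IdealSheafData.coe_support_vanishingIdeal]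
    rfl
  have h1 := dim_eq_sd_range I.subschemeι I.subschemeι.isEmbedding
  rw [hr, ← Iic_eq_closure] at h1
  rw [← h1]
  unfold WeilCoh.pdim WeilCoh.dim WeilCoh.natDim
  rw [IsHomeomorph.topologicalKrullDim_eq _
    ((I.subschemeι.isEmbedding.toHomeomorph.trans (Homeomorph.setCongr hr)).isHomeomorph)]

theorem sd_Iic (x : X) : sd (Set.Iic x) = (Order.height x).toNat := by
  rw [sd, ← Order.height_eq_krullDim_Iic, WithBot.unbotD_coe]

theorem pdim_eq_toNat_height (x : X) : WeilCoh.pdim X x = (Order.height x).toNat := by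
  rw [pdim_eq_sd, sd_Iic]

end Scheme

variable {V : ObjectProperty Scheme.{u}} [IsConstructible V]

theorem krullDim_lt_top (X : Obj V) : Order.krullDim ↥X.scheme < ⊤ := by
  rw [← SchTopo.Basic.topologicalKrullDim_eq_krullDim_scheme]
  exact IsConstructible.finiteDim X.mem

theorem height_ne_top (X : Obj V) (x : X.scheme) : Order.height x ≠ ⊤ := by
  intro h
  have h1 := Order.height_le_krullDim x
  rw [h] at h1
  exact absurd (lt_of_le_of_lt h1 (krullDim_lt_top X)) (lt_irrefl _)

/-- `pdim` is the height in the specialization order. -/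
theorem coe_pdim (X : Obj V) (x : X.scheme) :
    (WeilCoh.pdim X.scheme x : ℕ∞) = Order.height x := by
  rw [pdim_eq_toNat_height, ENat.natCast_toNat (height_ne_top X x)]

theorem pdim_le_of_specializes (X : Obj V) {x y : X.scheme} (h : x ⤳ y) :
    WeilCoh.pdim X.scheme y ≤ WeilCoh.pdim X.scheme x := by
  have := Order.height_mono (show y ≤ x from h)
  rw [← coe_pdim, ← coe_pdim] at this
  exact_mod_cast this

theorem pdim_lt_of_specializes (X : Obj V) {x y : X.scheme} (h : x ⤳ y) (hne : x ≠ y) :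
    WeilCoh.pdim X.scheme y < WeilCoh.pdim X.scheme x := by
  have := Order.height_strictMono (lt_of_specializes h hne)
    (lt_top_iff_ne_top.2 (height_ne_top X y))
  rw [← coe_pdim, ← coe_pdim] at this
  exact_mod_cast this

/-- All smaller dimensions are attained by specializations. -/
theorem exists_specializes_pdim_eq (X : Obj V) (x : X.scheme) {k : ℕ}
    (hk : k ≤ WeilCoh.pdim X.scheme x) :
    ∃ y : X.scheme, x ⤳ y ∧ WeilCoh.pdim X.scheme y = k := by
  rcases hk.eq_or_lt with h | h
  · exact ⟨x, specializes_rfl, h.symm⟩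
  · have h' : (k : ℕ∞) < Order.height x := by rw [← coe_pdim]; exact_mod_cast h
    obtain ⟨y, hy, hyk⟩ := (Order.coe_lt_height_iff (lt_top_iff_ne_top.2 (height_ne_top X x))).1 h'
    rw [← coe_pdim] at hyk
    exact ⟨y, hy.le, by exact_mod_cast hyk⟩

theorem coe_dim (X : Obj V) [Nonempty ↥X.scheme] :
    (WeilCoh.dim X.scheme : ℕ∞) = ⨆ x : X.scheme, Order.height x := by
  rw [dim_eq_krullDim, Order.krullDim_eq_iSup_height_of_nonempty, WithBot.unbotD_coe,
    ENat.natCast_toNat]
  intro h
  have := krullDim_lt_top X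
  rw [Order.krullDim_eq_iSup_height_of_nonempty, h] at this
  exact absurd this (lt_irrefl _)

theorem pdim_le_dim (X : Obj V) (x : X.scheme) :
    WeilCoh.pdim X.scheme x ≤ WeilCoh.dim X.scheme := by
  have : Nonempty ↥X.scheme := ⟨x⟩
  have h : (WeilCoh.pdim X.scheme x : ℕ∞) ≤ (WeilCoh.dim X.scheme : ℕ∞) := by
    rw [coe_pdim, coe_dim]; exact le_iSup (fun x => Order.height x) x
  exact_mod_cast h

theorem exists_pdim_eq_dim (X : Obj V) [Nonempty ↥X.scheme] :
    ∃ x : X.scheme, WeilCoh.pdim X.scheme x = WeilCoh.dim X.scheme := by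
  obtain ⟨x, hx⟩ := ENat.exists_eq_iSup_of_lt_top (f := fun x : X.scheme => Order.height x)
    (by rw [← coe_dim]; exact ENat.natCast_lt_top _)
  refine ⟨x, ?_⟩
  rw [← coe_dim, ← coe_pdim] at hx
  exact_mod_cast hx

theorem dim_of_isEmpty (X : Scheme.{u}) [IsEmpty ↥X] : WeilCoh.dim X = 0 := by
  rw [dim_eq_krullDim, Order.krullDim_eq_bot]
  rfl

theorem dim_le_of_forall (X : Obj V) {k : ℕ} (h : ∀ x : X.scheme, WeilCoh.pdim X.scheme x ≤ k) :
    WeilCoh.dim X.scheme ≤ k := by
  rcases isEmpty_or_nonempty ↥X.scheme with h' | h'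
  · rw [dim_of_isEmpty]; exact Nat.zero_le _
  · obtain ⟨x, hx⟩ := exists_pdim_eq_dim X
    exact hx ▸ h x

theorem codim_add_pdim (X : Obj V) (x : X.scheme) :
    WeilCoh.codim X.scheme x + WeilCoh.pdim X.scheme x = WeilCoh.dim X.scheme :=
  Nat.sub_add_cancel (pdim_le_dim X x)

theorem codim_lt_of_specializes (X : Obj V) {x y : X.scheme} (h : x ⤳ y) (hne : x ≠ y) :
    WeilCoh.codim X.scheme x < WeilCoh.codim X.scheme y := by
  have := pdim_lt_of_specializes X h hne
  have := codim_add_pdim X x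
  have := codim_add_pdim X y
  omega

theorem codim_le_of_specializes (X : Obj V) {x y : X.scheme} (h : x ⤳ y) :
    WeilCoh.codim X.scheme x ≤ WeilCoh.codim X.scheme y := by
  have := pdim_le_of_specializes X h
  have := codim_add_pdim X x
  have := codim_add_pdim X y
  omega

section Immersion

variable {Z X : Obj V}

/-- `pdim` is intrinsic along closed immersions. -/
theorem pdim_of_isClosedImmersion (i : Z.scheme ⟶ X.scheme) [IsClosedImmersion i] (z : Z.scheme) :
    WeilCoh.pdim X.scheme (i z) = WeilCoh.pdim Z.scheme z := by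
  rw [pdim_eq_sd, pdim_eq_sd, sd, sd]
  refine congrArg (fun t : WithBot ℕ∞ => (t.unbotD 0).toNat)
    (Order.krullDim_eq_of_orderIso (OrderIso.symm ?_))
  refine orderIsoOfBij
    (fun w : Set.Iic z => (⟨i w.1, (w.2 : z ⤳ w.1).map i.continuous⟩ : Set.Iic (i z)))
    (fun a b h => Subtype.ext (i.isEmbedding.injective (congrArg Subtype.val h))) ?_
    (fun a b => i.isEmbedding.isInducing.specializes_iff)
  · rintro ⟨y, hy⟩
    obtain ⟨w, rfl⟩ : y ∈ Set.range i :=
      (hy : i z ⤳ y).mem_closed i.isClosedEmbedding.isClosed_range ⟨z, rfl⟩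
    exact ⟨⟨w, i.isEmbedding.isInducing.specializes_iff.1 (hy : i z ⤳ i w)⟩, rfl⟩

theorem range_ptSubι (X : Obj V) (x : X.scheme) :
    Set.range (X.ptSubι x) = closure ({x} : Set X.scheme) := by
  rw [Scheme.IdealSheafData.range_subschemeι, Scheme.IdealSheafData.coe_support_vanishingIdeal]
  rfl

theorem dim_ptSub (X : Obj V) (x : X.scheme) :
    WeilCoh.dim (X.ptSub x).scheme = WeilCoh.pdim X.scheme x := by
  rw [dim_eq_sd_range _ (X.ptSubι x).isEmbedding, range_ptSubι, pdim_eq_sd, Iic_eq_closure]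

/-- The generic point of the reduced closure of a point. -/
theorem exists_genPt (X : Obj V) (x : X.scheme) :
    ∃ p : (X.ptSub x).scheme, X.ptSubι x p = x ∧ ∀ q : (X.ptSub x).scheme, p ⤳ q := by
  obtain ⟨p, hp⟩ : x ∈ Set.range (X.ptSubι x) := by
    rw [range_ptSubι]; exact subset_closure rfl
  refine ⟨p, hp, fun q => (X.ptSubι x).isEmbedding.isInducing.specializes_iff.1 ?_⟩
  rw [hp, specializes_iff_mem_closure, ← range_ptSubι]
  exact ⟨q, rfl⟩

theorem irreducibleSpace_ptSub (X : Obj V) (x : X.scheme) :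
    IrreducibleSpace ↥(X.ptSub x).scheme := by
  obtain ⟨p, -, hp⟩ := exists_genPt X x
  have : IsIrreducible (Set.univ : Set ↥(X.ptSub x).scheme) := by
    have h : closure ({p} : Set ↥(X.ptSub x).scheme) = Set.univ :=
      Set.eq_univ_of_forall fun q => (hp q).mem_closure
    rw [← h]
    exact isIrreducible_singleton.closure
  exact (irreducibleSpace_def _).2 this

theorem dim_ptSub_open (X : Obj V) (x : X.scheme) (W : (X.ptSub x).scheme.Opens)
    (hW : (W : Set (X.ptSub x).scheme).Nonempty) :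
    WeilCoh.dim (W : Scheme.{u}) = WeilCoh.pdim X.scheme x := by
  rw [IsConstructible.dim_open (X.ptSub x).mem (irreducibleSpace_ptSub X x) W hW, dim_ptSub]

/-- `pdim` is intrinsic along open immersions between objects. -/
theorem pdim_of_isOpenImmersion {U : Obj V} (j : U.scheme ⟶ X.scheme) [IsOpenImmersion j]
    (v : U.scheme) : WeilCoh.pdim X.scheme (j v) = WeilCoh.pdim U.scheme v := by
  let W : (X.ptSub (j v)).scheme.Opens := (X.ptSubι (j v)) ⁻¹ᵁ j.opensRange
  obtain ⟨p, hp, -⟩ := exists_genPt X (j v)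
  rw [← dim_ptSub_open X (j v) W ⟨p, show X.ptSubι (j v) p ∈ j.opensRange by rw [hp]; exact ⟨v, rfl⟩⟩,
    dim_eq_sd_range (W.ι ≫ X.ptSubι (j v))
      ((X.ptSubι (j v)).isEmbedding.comp W.ι.isOpenEmbedding.isEmbedding), pdim_eq_sd]
  have hr : Set.range (W.ι ≫ X.ptSubι (j v)) = Set.Iic (j v) ∩ Set.range j := by
    rw [Scheme.Hom.comp_base, TopCat.coe_comp, Set.range_comp, Scheme.Opens.range_ι,
      Iic_eq_closure, ← range_ptSubι X (j v)]
    change X.ptSubι (j v) '' (X.ptSubι (j v) ⁻¹' Set.range j) = _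
    rw [Set.image_preimage_eq_range_inter]
  rw [hr, sd, sd]
  refine congrArg (fun t : WithBot ℕ∞ => (t.unbotD 0).toNat) (Order.krullDim_eq_of_orderIso ?_)
  refine OrderIso.symm (orderIsoOfBij
    (fun w : Set.Iic v => (⟨j w.1, (w.2 : v ⤳ w.1).map j.continuous, w.1, rfl⟩ :
      ↥(Set.Iic (j v) ∩ Set.range j)))
    (fun a b h => Subtype.ext (j.isOpenEmbedding.injective (congrArg Subtype.val h))) ?_
    (fun a b => j.isOpenEmbedding.isInducing.specializes_iff))
  · rintro ⟨_, hy, w, rfl⟩
    exact ⟨⟨w, j.isOpenEmbedding.isInducing.specializes_iff.1 (hy : j v ⤳ j w)⟩, rfl⟩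

theorem codim_hom {Y : Obj V} (e : Y ⟶ X) (y : Y.scheme) :
    WeilCoh.codim X.scheme (e.hom y) = WeilCoh.codim Y.scheme y := by
  unfold WeilCoh.codim
  rw [pdim_of_isOpenImmersion e.hom, e.dim_eq]

theorem pdim_opens (U : X.scheme.Opens) (v : (U : Scheme.{u})) :
    WeilCoh.pdim X.scheme (U.ι v) = WeilCoh.pdim (U : Scheme.{u}) v :=
  pdim_of_isOpenImmersion (U := X.res U) (X := X) U.ι v

theorem dim_open_le (U : X.scheme.Opens) : WeilCoh.dim (U : Scheme.{u}) ≤ WeilCoh.dim X.scheme :=
  dim_le_of_forall (X.res U) fun v =>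
    (pdim_opens U v).symm.trans_le (pdim_le_dim X _)

theorem le_dim_open (U : X.scheme.Opens) {x : X.scheme} (hx : x ∈ U) :
    WeilCoh.pdim X.scheme x ≤ WeilCoh.dim (U : Scheme.{u}) :=
  (pdim_opens U ⟨x, hx⟩).le.trans (pdim_le_dim (X.res U) _)

/-- An open containing all points of codimension at most `j` has the dimension of the object. -/
theorem dim_open_of_containsFj {j : ℕ} {U : X.scheme.Opens} (h : ContainsFj X j U) :
    WeilCoh.dim (U : Scheme.{u}) = WeilCoh.dim X.scheme := by
  refine le_antisymm (dim_open_le U) ?_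
  rcases isEmpty_or_nonempty ↥X.scheme with h' | h'
  · rw [dim_of_isEmpty]; exact Nat.zero_le _
  · obtain ⟨x, hx⟩ := exists_pdim_eq_dim X
    rw [← hx]
    exact le_dim_open U (h x (by unfold WeilCoh.codim; omega))

theorem dim_closed_le (i : Z.scheme ⟶ X.scheme) [IsClosedImmersion i] :
    WeilCoh.dim Z.scheme ≤ WeilCoh.dim X.scheme :=
  dim_le_of_forall Z fun z => (pdim_of_isClosedImmersion i z).ge.trans (pdim_le_dim X _)

/-- A closed subscheme whose points have `pdim ≤ k`, one of them exactly `k`, has dimension `k`. -/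
theorem dim_closed_eq (i : Z.scheme ⟶ X.scheme) [IsClosedImmersion i] {k : ℕ}
    (hle : ∀ x ∈ Set.range i, WeilCoh.pdim X.scheme x ≤ k)
    (hex : ∃ x ∈ Set.range i, WeilCoh.pdim X.scheme x = k) : WeilCoh.dim Z.scheme = k := by
  refine le_antisymm (dim_le_of_forall Z fun z => ?_) ?_
  · rw [← pdim_of_isClosedImmersion i z]; exact hle _ ⟨z, rfl⟩
  · obtain ⟨_, ⟨z, rfl⟩, hz⟩ := hex
    rw [← hz, pdim_of_isClosedImmersion i z]
    exact pdim_le_dim Z z

end Immersion

end Groth.Agent.Lib.BMTheory
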