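import Groth.Agent.Lib.BMTheory.StratumRes

/-!
The long exact sequence of the groups of the loci of bounded codimension, for given residue and
push-forward data, and uniqueness of those data.
-/

set_option autoImplicit false
set_option linter.unusedSectionVars false

universe u

open AlgebraicGeometry CategoryTheory CategoryTheory.Limits Opposite TopologicalSpace Topology DirectSum

namespace Groth.Agent.Lib.BMTheory

open BMCoh

variable {V : ObjectProperty Scheme.{u}} [IsConstructible V]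
variable {R : Type u} [CommRing R] {A : Coefs R} (T : PreTheory V R A) (M : A.Cat)
variable {X : Obj V} {j : ℕ}

theorem exists_lower {k : ℕ} {ι : Type*} [Finite ι] (O : ι → Idx X (ContainsFj X k)) :
    ∃ O' : Idx X (ContainsFj X k), ∀ a, O'.1 ≤ (O a).1 := by
  let B : X.scheme.Opens := ⟨⋂ a, ((O a).1 : Set X.scheme),
    isOpen_iInter_of_finite fun a => (O a).1.isOpen⟩
  exact ⟨fjIdx B fun y hy => Set.mem_iInter.2 fun a => (O a).2.1 y hy,
    fun a y hy => Set.mem_iInter.1 hy a⟩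

/-- Residues vanish at the points inside the open carrying the class. -/
theorem resData_cpt_eq_zero (Q : T.ResData X j) (U : Idx X (ContainsFj X j)) (x : X.cdPt (j + 1))
    (hx : x.1 ∈ U.1) {i n i' n' : ℤ} (hi : i' = i + 1 - 2 * ((j : ℤ) + 1))
    (hn : n' = n - ((j : ℤ) + 1)) (b : T.gp (X.res U.1) M i n) :
    (Q.cpt x M i n i' n' hi hn).hom (((T.fjι X j i n U).app M).hom b) = 0 := by
  let U₀ : Idx X (ContainsFj X j) := fjIdx (U.1 ⊓ avoid {x.1} (Set.finite_singleton _))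
    fun y hy => ⟨U.2.1 y hy,
      containsFj_avoid (by rintro _ rfl; rw [x.2]; exact Nat.lt_succ_self j) y hy⟩
  have hle : U₀.1 ≤ U.1 := inf_le_left
  let D : Decomp (X.res U.1) :=
    { Z := (X.ptSub x.1).res (piece U.1 x.1 hx).1
      U := X.res U₀.1
      i := pieceMor U.1 x.1 hx
      closedImm := inferInstance
      j := rle hle
      range_eq := by
        refine (Stratum.range_homOfLE hle).trans (Set.ext fun y => ?_)
        constructor
        · rintro hy ⟨q, rfl⟩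
          refine (mem_avoid (hs := Set.finite_singleton x.1)).1 hy.2 x.1 rfl ?_
          have h2 : U.1.ι (pieceMor U.1 x.1 hx q) ∈ closure ({x.1} : Set X.scheme) ∩ U.1 := by
            rw [← image_piece U.1 x.1 hx, ← Scheme.Hom.comp_apply, pieceMor_ι]
            exact ⟨q, rfl⟩
          exact specializes_iff_mem_closure.2 h2.1
        · intro hy
          refine ⟨y.2, (mem_avoid (hs := Set.finite_singleton x.1)).2 ?_⟩
          rintro _ rfl hxy
          have h2 : U.1.ι y ∈ Set.range ((piece U.1 x.1 hx).1.ι ≫ X.ptSubι x.1) :=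
            (image_piece U.1 x.1 hx).symm ▸ ⟨hxy.mem_closure, y.2⟩
          obtain ⟨q, hq⟩ := h2
          rw [← pieceMor_ι] at hq
          exact hy ⟨q, U.1.ι.isOpenEmbedding.injective hq⟩ }
  have hc : D.codim = (j : ℤ) + 1 :=
    (relCodim_ptIdx U (piece U.1 x.1 hx)).trans (by rw [x.2]; push_cast; rfl)
  have h := ConcreteCategory.congr_hom (Q.cpt_spec x M i n i' n' hi hn (X.resι U.1 U.2.2) D
    (piece U.1 x.1 hx) (𝟙 _) ((Category.id_comp _).trans (pieceMor_ι _ _ _)) U₀ (𝟙 _)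
    ((Category.id_comp _).trans (X.scheme.homOfLE_ι hle)) (by rw [hc]; exact hi)
    (by rw [hc]; exact hn)) ((T.pull D.j M i n).hom b)
  rw [pull_id] at h
  rw [← ι_rle_apply T M i n hle b]
  refine h.trans ?_
  change ((T.ptι X x.1 i' n' _).app M).hom ((T.pull (𝟙 _) M i' n').hom
    ((T.res D M i n i' n' _ _).hom ((T.pull D.j M i n).hom b))) = 0
  rw [res_pull_j, map_zero, map_zero]

/-- Every element of a direct sum over points vanishing inside `U` is a sum over the points outside. -/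
theorem sum_gen_lof [DecidableEq (X.cdPt (j + 1))] (S : Stratum X j) {i n : ℤ}
    (ξ : T.ptSum X (j + 1) M i n) (h : ∀ x : X.cdPt (j + 1), x.1 ∈ S.U.1 → ξ x = 0) :
    ξ = ∑ x : S.Gen, DirectSum.lof R (X.cdPt (j + 1))
      (fun y : X.cdPt (j + 1) => T.ptGp X y.1 M i n) x.1 (ξ x.1) := by
  refine DFinsupp.ext fun y => ?_
  rw [DFinsupp.finsetSum_apply]
  by_cases hy : y.1 ∈ S.U.1
  · rw [h y hy]
    refine (Finset.sum_eq_zero fun x _ => ?_).symm
    rw [DirectSum.lof_eq_of]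
    exact DirectSum.of_eq_of_ne (β := fun y : X.cdPt (j + 1) => T.ptGp X y.1 M i n) _ _ _
      fun e => x.2 (e ▸ hy)
  · rw [Finset.sum_eq_single (⟨y, hy⟩ : S.Gen)]
    · rw [DirectSum.lof_eq_of]; exact (DirectSum.of_eq_same (β := fun y : X.cdPt (j + 1) => T.ptGp X y.1 M i n) _ _).symm
    · intro x _ hx
      rw [DirectSum.lof_eq_of]
      exact DirectSum.of_eq_of_ne (β := fun y : X.cdPt (j + 1) => T.ptGp X y.1 M i n) _ _ _
        fun e => hx (Subtype.ext e.symm)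
    · simp

theorem pushData_tot_eq_sum (P : T.PushData X (j + 1)) (S : Stratum X j) {i n p m : ℤ}
    (hp : p = i + 2 * ((j + 1 : ℕ) : ℤ)) (hm : m = n + ((j + 1 : ℕ) : ℤ))
    (ξ : T.ptSum X (j + 1) M i n) (h : ∀ x : X.cdPt (j + 1), x.1 ∈ S.U.1 → ξ x = 0)
    (d : ∀ x : S.Gen, T.gp ((X.ptSub x.1.1).res (S.pc x.1).1) M i n)
    (hd : ∀ x : S.Gen, ((T.ptι X x.1.1 i n (S.pc x.1)).app M).hom (d x) = ξ x.1) :
    (P.tot M i n p m hp hm).hom ξ = ((T.fjι X (j + 1) p m S.O).app M).hom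
      (∑ x : S.Gen, (pushPiece T M S.O x.1.1 (S.mem_O x.1) x.1.2 hp hm).hom (d x)) := by
  classical
  conv_lhs => rw [sum_gen_lof T M S ξ h]
  rw [map_sum, map_sum]
  refine Finset.sum_congr rfl fun x _ => ?_
  rw [PreTheory.PushData.tot_lof, ← hd, pushData_cpt_ι]

theorem Stratum.pull_sum_pushPiece (S : Stratum X j) (O₁ : Idx X (ContainsFj X (j + 1)))
    {i n p m : ℤ} (hp : p = i + 2 * ((j + 1 : ℕ) : ℤ)) (hm : m = n + ((j + 1 : ℕ) : ℤ))
    (d : ∀ x : S.Gen, T.gp ((X.ptSub x.1.1).res (S.pc x.1).1) M i n) :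
    (T.pull (rle (S.restrict_O_le O₁)) M p m).hom
        (∑ x : S.Gen, (pushPiece T M S.O x.1.1 (S.mem_O x.1) x.1.2 hp hm).hom (d x)) =
      ∑ x : (S.restrict O₁).Gen,
        (pushPiece T M (S.restrict O₁).O x.1.1 ((S.restrict O₁).mem_O x.1) x.1.2 hp hm).hom
          ((T.pull (rle (S.restrict_pc_le O₁ x.1)) M i n).hom (d (S.genUnres O₁ x))) := by
  rw [map_sum]
  refine (Fintype.sum_equiv ⟨S.genRes O₁, S.genUnres O₁, fun _ => rfl, fun _ => rfl⟩
    _ _ fun x => ?_)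
  exact pull_pushPiece T M (S.restrict_O_le O₁) x.1.1 ((S.restrict O₁).mem_O x.1) x.1.2 hp hm (d x)

theorem Stratum.ι_sum_pushPiece_eq_zero (S : Stratum X j) {i n p m : ℤ}
    (hp : p = i + 2 * ((j + 1 : ℕ) : ℤ)) (hm : m = n + ((j + 1 : ℕ) : ℤ))
    (d : ∀ x : S.Gen, T.gp ((X.ptSub x.1.1).res (S.pc x.1).1) M i n)
    (hd : ∀ x : S.Gen, ((T.ptι X x.1.1 i n (S.pc x.1)).app M).hom (d x) = 0) :
    ((T.fjι X (j + 1) p m S.O).app M).hom
      (∑ x : S.Gen, (pushPiece T M S.O x.1.1 (S.mem_O x.1) x.1.2 hp hm).hom (d x)) = 0 := by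
  choose W hW hW0 using fun x : S.Gen => (ocolim_eq_zero_iff T M i n _).1 (hd x)
  obtain ⟨O₁, hO₁⟩ := exists_open_cuts (X := X) (j := j + 1) (fun x : S.Gen => x.1.1)
    (fun x => x.1.2.ge) W
  refine (ocolim_eq_zero_iff T M p m _).2 ⟨(S.restrict O₁).O, S.restrict_O_le O₁, ?_⟩
  rw [S.pull_sum_pushPiece T M O₁]
  refine Finset.sum_eq_zero fun x _ => ?_
  have hle : ((S.restrict O₁).pc x.1).1 ≤ (W (S.genUnres O₁ x)).1 :=
    piece_le_of_le_cutOpen ((S.restrict_O_le' O₁).trans (hO₁ (S.genUnres O₁ x))) _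
  have e := pull_rle_rle T M (hW (S.genUnres O₁ x)) hle (d (S.genUnres O₁ x))
  erw [← e, hW0 (S.genUnres O₁ x)]
  rw [map_zero, map_zero]

theorem exact_fjRes_resTot (Q : T.ResData X j) (i n i' n' : ℤ)
    (hi : i' = i + 1 - 2 * ((j : ℤ) + 1)) (hn : n' = n - ((j : ℤ) + 1)) :
    Function.Exact ((T.fjRes X (Nat.le_succ j) i n).app M).hom (Q.tot M i n i' n' hi hn).hom := by
  intro a
  constructor
  · intro h
    obtain ⟨U, b, rfl⟩ := ocolim_exists_rep T M i n a
    obtain ⟨S, rfl⟩ := exists_stratum U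
    obtain ⟨c, hc⟩ := exists_extend T M hi hn S b fun x => by
      rw [← Stratum.resData_cpt T M S Q x hi hn b]
      exact congrArg (fun ξ : T.ptSum X (j + 1) M i' n' => ξ x.1) h
    exact ⟨c, hc⟩
  · rintro ⟨a', rfl⟩
    obtain ⟨O, c, rfl⟩ := ocolim_exists_rep T M i n a'
    refine DFinsupp.ext fun x => ?_
    rw [ι_fjRes]
    exact resData_cpt_eq_zero T M Q ⟨O.1, containsFj_mono X (Nat.le_succ j) _ O.2.1, O.2.2⟩ x
      (O.2.1 x.1 x.2.le) hi hn c

theorem resTot_apply_mem (Q : T.ResData X j) (U : Idx X (ContainsFj X j)) {i n i' n' : ℤ}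
    (hi : i' = i + 1 - 2 * ((j : ℤ) + 1)) (hn : n' = n - ((j : ℤ) + 1))
    (b : T.gp (X.res U.1) M i n) (x : X.cdPt (j + 1)) (hx : x.1 ∈ U.1) :
    (Q.tot M i n i' n' hi hn).hom (((T.fjι X j i n U).app M).hom b) x = 0 :=
  resData_cpt_eq_zero T M Q U x hx hi hn b

theorem exact_resTot_pushTot (Q : T.ResData X j) (P : T.PushData X (j + 1)) (i n i' n' : ℤ)
    (hi : i' = i + 1 - 2 * ((j : ℤ) + 1)) (hn : n' = n - ((j : ℤ) + 1))
    (hi2 : i + 1 = i' + 2 * ((j + 1 : ℕ) : ℤ)) (hn2 : n = n' + ((j + 1 : ℕ) : ℤ)) :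
    Function.Exact (Q.tot M i n i' n' hi hn).hom (P.tot M i' n' (i + 1) n hi2 hn2).hom := by
  classical
  intro ξ
  constructor
  · intro hξ
    let s : Set (X.cdPt (j + 1)) := {x | ξ x ≠ 0}
    have hs : s.Finite := ξ.support.finite_toSet.subset fun x hx => DFinsupp.mem_support_toFun ξ x |>.2 hx
    obtain ⟨S, hS⟩ := exists_stratum (X := X) (j := j)
      (fjIdx (avoid (Subtype.val '' s) (hs.image _))
        (containsFj_avoid (by rintro _ ⟨x, -, rfl⟩; rw [x.2]; exact Nat.lt_succ_self j)))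
    have hz : ∀ x : X.cdPt (j + 1), x.1 ∈ S.U.1 → ξ x = 0 := fun x hx => by
      by_contra hne
      rw [hS] at hx
      exact (mem_avoid (hs := hs.image Subtype.val)).1 hx x.1 ⟨x, hne, rfl⟩ specializes_rfl
    rcases isEmpty_or_nonempty S.Gen with he | ⟨⟨x₀⟩⟩
    · refine ⟨0, ?_⟩
      rw [map_zero]
      exact DFinsupp.ext fun x => (hz x (by_contra fun hx => he.false ⟨x, hx⟩)).symm
    choose O hO using fun x : S.Gen => exists_piece_rep T M x.1 (ξ x.1)
    obtain ⟨O₁, hO₁⟩ := exists_lower O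
    let S₁ := S.restrict O₁
    have hz₁ : ∀ x : X.cdPt (j + 1), x.1 ∈ S₁.U.1 → ξ x = 0 := fun x hx => hz x hx.1
    choose d hd using fun x : S₁.Gen => hO (S.genUnres O₁ x) S₁.O
      ((S.restrict_O_le' O₁).trans (hO₁ _))
    rw [pushData_tot_eq_sum T M P S₁ hi2 hn2 ξ hz₁ d hd] at hξ
    obtain ⟨O₂, hO₂, h0⟩ := (ocolim_eq_zero_iff T M _ _ _).1 hξ
    let S₂ := S₁.restrict O₂
    have h1 : (T.pull (rle (S₁.restrict_O_le O₂)) M (i + 1) n).hom
        (∑ x : S₁.Gen, (pushPiece T M S₁.O x.1.1 (S₁.mem_O x.1) x.1.2 hi2 hn2).hom (d x)) = 0 := by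
      rw [← pull_rle_rle T M hO₂ (S₁.restrict_O_le' O₂), h0, map_zero]
    rw [S₁.pull_sum_pushPiece T M O₂] at h1
    obtain ⟨b, hb⟩ := S₂.exists_comp_eq T M (S₁.genRes O₂ (S.genRes O₁ x₀)) hi hn hi2 hn2 _ h1
    refine ⟨((T.fjι X j i n S₂.U).app M).hom b, DFinsupp.ext fun x => ?_⟩
    by_cases hx : x.1 ∈ S₂.U.1
    · rw [resTot_apply_mem T M Q S₂.U hi hn b x hx]
      exact (hz₁ x hx.1).symm
    · refine (Stratum.resData_cpt T M S₂ Q ⟨x, hx⟩ hi hn b).trans ?_
      rw [hb]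
      exact (ι_rle_apply T M i' n' (S₁.restrict_pc_le O₂ x) _).trans
        (hd (S₁.genUnres O₂ ⟨x, hx⟩))
  · rintro ⟨a, rfl⟩
    obtain ⟨U, b, rfl⟩ := ocolim_exists_rep T M i n a
    obtain ⟨S, rfl⟩ := exists_stratum U
    rw [pushData_tot_eq_sum T M P S hi2 hn2 _ (resTot_apply_mem T M Q S.U hi hn b)
      (fun x => (Stratum.comp T M S x hi hn).hom b)
      (fun x => (Stratum.resData_cpt T M S Q x hi hn b).symm)]
    rcases isEmpty_or_nonempty S.Gen with he | ⟨⟨x₀⟩⟩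
    · simp
    · rw [S.sum_push_comp T M x₀ hi hn hi2 hn2 b, map_zero]

theorem fjRes_pushData_cpt (P : T.PushData X (j + 1)) (x : X.cdPt (j + 1)) {i n p m : ℤ}
    (hp : p = i + 2 * ((j + 1 : ℕ) : ℤ)) (hm : m = n + ((j + 1 : ℕ) : ℤ))
    (ξ : T.ptGp X x.1 M i n) :
    ((T.fjRes X (Nat.le_succ j) p m).app M).hom ((P.cpt x M i n p m hp hm).hom ξ) = 0 := by
  obtain ⟨O, hO⟩ := exists_piece_rep T M x ξ
  obtain ⟨d, rfl⟩ := hO O le_rfl
  rw [pushData_cpt_ι, ι_fjRes]
  let U₀ : Idx X (ContainsFj X j) := fjIdx (O.1 ⊓ avoid {x.1} (Set.finite_singleton _))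
    fun y hy => ⟨containsFj_mono X (Nat.le_succ j) _ O.2.1 y hy,
      containsFj_avoid (by rintro _ rfl; rw [x.2]; exact Nat.lt_succ_self j) y hy⟩
  refine (ocolim_eq_zero_iff T M p m _).2 ⟨U₀, inf_le_left, ?_⟩
  exact pull_pushPiece_eq_zero T M O U₀ inf_le_left x.1 (O.2.1 x.1 x.2.le)
    (fun h => (mem_avoid (hs := Set.finite_singleton x.1)).1 h.2 x.1 rfl specializes_rfl)
    x.2 hp hm d

theorem exact_pushTot_fjRes (P : T.PushData X (j + 1)) (i n p m : ℤ)
    (hp : p = i + 2 * ((j + 1 : ℕ) : ℤ)) (hm : m = n + ((j + 1 : ℕ) : ℤ)) :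
    Function.Exact (P.tot M i n p m hp hm).hom ((T.fjRes X (Nat.le_succ j) p m).app M).hom := by
  classical
  intro a
  constructor
  · intro ha
    obtain ⟨S, d, rfl⟩ := exists_stratum_sum_push T M hp hm a ha
    refine ⟨∑ x : S.Gen, DirectSum.lof R (X.cdPt (j + 1))
      (fun y : X.cdPt (j + 1) => T.ptGp X y.1 M i n) x.1
      (((T.ptι X x.1.1 i n (S.pc x.1)).app M).hom (d x)), ?_⟩
    rw [map_sum, map_sum]
    exact Finset.sum_congr rfl fun x _ => by rw [PreTheory.PushData.tot_lof, pushData_cpt_ι]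
  · rintro ⟨ξ, rfl⟩
    induction ξ using DirectSum.induction_on with
    | zero => simp
    | of x ξ =>
      rw [← DirectSum.lof_eq_of R, PreTheory.PushData.tot_lof]
      exact fjRes_pushData_cpt T M P x hp hm ξ
    | add a b ha hb => simp [map_add, ha, hb]

theorem fjRes_bijective_of_isZero (i n : ℤ)
    (h0 : ∀ x : X.scheme, WeilCoh.codim X.scheme x = j + 1 →
      IsZero (T.ptGp X x M (i - 2 * ((j : ℤ) + 1)) (n - ((j : ℤ) + 1))))
    (h1 : ∀ x : X.scheme, WeilCoh.codim X.scheme x = j + 1 →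
      IsZero (T.ptGp X x M (i + 1 - 2 * ((j : ℤ) + 1)) (n - ((j : ℤ) + 1)))) :
    Function.Bijective ((T.fjRes X (Nat.le_succ j) i n).app M).hom := by
  constructor
  · refine (injective_iff_map_eq_zero _).2 fun a ha => ?_
    obtain ⟨S, d, rfl⟩ := exists_stratum_sum_push T M (i := i - 2 * ((j : ℤ) + 1))
      (n := n - ((j : ℤ) + 1)) (by omega) (by omega) a ha
    exact S.ι_sum_pushPiece_eq_zero T M _ _ d fun x =>
      @Subsingleton.elim _ (ModuleCat.subsingleton_of_isZero (h0 x.1.1 x.1.2)) _ _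
  · intro a
    obtain ⟨U, b, rfl⟩ := ocolim_exists_rep T M i n a
    obtain ⟨S, rfl⟩ := exists_stratum U
    exact exists_extend T M rfl rfl S b fun x =>
      @Subsingleton.elim _ (ModuleCat.subsingleton_of_isZero (h1 x.1.1 x.1.2)) _ _

theorem subsingleton_pushData (k : ℕ) : Subsingleton (T.PushData X k) := by
  refine ⟨fun P P' => ?_⟩
  have h : P.cpt = P'.cpt := by
    funext x N i n p m hp hm
    refine ModuleCat.hom_ext (LinearMap.ext fun ξ => ?_)
    obtain ⟨O, hO⟩ := exists_piece_rep T N x ξ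
    obtain ⟨d, rfl⟩ := hO O le_rfl
    rw [pushData_cpt_ι, pushData_cpt_ι]
  cases P; cases P'; cases h; rfl

theorem subsingleton_resData : Subsingleton (T.ResData X j) := by
  refine ⟨fun Q Q' => ?_⟩
  have h : Q.cpt = Q'.cpt := by
    funext x N i n i' n' hi hn
    refine ocolim_hom_ext' T N i n fun U b => ?_
    by_cases hx : x.1 ∈ U.1
    · rw [resData_cpt_eq_zero T N Q U x hx, resData_cpt_eq_zero T N Q' U x hx]
    · obtain ⟨S, rfl⟩ := exists_stratum U
      exact (Stratum.resData_cpt T N S Q ⟨x, hx⟩ hi hn b).trans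
        (Stratum.resData_cpt T N S Q' ⟨x, hx⟩ hi hn b).symm
  cases Q; cases Q'; cases h; rfl

end Groth.Agent.Lib.BMTheory
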