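import Groth.Agent.Lib.BMTheory.PtMap
import Groth.Agent.Lib.BMTheory.ExactFj
import Mathlib.AlgebraicGeometry.Morphisms.Integral
import Mathlib.AlgebraicGeometry.PullbackCarrier

/-!
Residues and push-forward along a finite morphism of objects: points, pieces and strata.
-/

set_option autoImplicit false
set_option linter.unusedSectionVars false

universe u

open AlgebraicGeometry CategoryTheory CategoryTheory.Limits Opposite TopologicalSpace Topology

namespace Groth.Agent.Lib.BMTheory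

open BMCoh

variable {V : ObjectProperty Scheme.{u}} [IsConstructible V] {Y X : Obj V}
  (φ : Y.scheme ⟶ X.scheme) [IsProper φ]

theorem le_pdim_map [IsIntegralHom φ] : ∀ (k : ℕ) (y : Y.scheme),
    WeilCoh.pdim Y.scheme y = k → k ≤ WeilCoh.pdim X.scheme (φ y) := by
  intro k
  induction k with
  | zero => exact fun y _ => Nat.zero_le _
  | succ k ih =>
    intro y hy
    obtain ⟨z, hz, hzk⟩ := exists_specializes_pdim_eq Y y (k := k) (by omega)
    have hne : φ y ≠ φ z := fun e => by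
      have := SchTopo.Basic.isIntegralHom_eq_of_specializes φ hz e
      subst this; omega
    have := ih z hzk
    have := pdim_lt_of_specializes X (hz.map φ.continuous) hne
    omega

theorem pdim_map_eq [IsIntegralHom φ] (y : Y.scheme) :
    WeilCoh.pdim X.scheme (φ y) = WeilCoh.pdim Y.scheme y :=
  le_antisymm (pdim_map_le φ _ y rfl) (le_pdim_map φ _ y rfl)

theorem relCodim_resIdx {P : X.scheme.Opens → Prop} {Q : Y.scheme.Opens → Prop} (W : Idx Y Q)
    (O : Idx X P) :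
    relCodim (Y.res W.1).scheme (X.res O.1).scheme = relCodim Y.scheme X.scheme := by
  have h1 : WeilCoh.dim (Y.res W.1).scheme = WeilCoh.dim Y.scheme := W.2.2
  have h2 : WeilCoh.dim (X.res O.1).scheme = WeilCoh.dim X.scheme := O.2.2
  unfold relCodim
  omega

/-- A point of `Y` over an open gives a map between the pieces of closures. -/
theorem exists_pieceMap (O : X.scheme.Opens) (y : Y.scheme) (x : X.scheme) (hyx : φ y = x)
    (hx : x ∈ O) (hy : y ∈ φ ⁻¹ᵁ O) :
    ∃ f : ((Y.ptSub y).res (piece (φ ⁻¹ᵁ O) y hy).1).scheme ⟶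
        ((X.ptSub x).res (piece O x hx).1).scheme,
      IsProper f ∧ f ≫ pieceMor O x hx = pieceMor (φ ⁻¹ᵁ O) y hy ≫ (φ ∣_ O) ∧
      f ≫ (piece O x hx).1.ι ≫ X.ptSubι x =
        (piece (φ ⁻¹ᵁ O) y hy).1.ι ≫ Y.ptSubι y ≫ φ := by
  have : IsReduced ((Y.ptSub y).res (piece (φ ⁻¹ᵁ O) y hy).1).scheme :=
    isReduced_of_isOpenImmersion (piece (φ ⁻¹ᵁ O) y hy).1.ι
  obtain ⟨f, hf⟩ := H75.RedKer.exists_lift (pieceMor (φ ⁻¹ᵁ O) y hy ≫ (φ ∣_ O))
    (pieceMor O x hx) (by
      rintro _ ⟨p, rfl⟩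
      have h1 : O.ι ((pieceMor (φ ⁻¹ᵁ O) y hy ≫ (φ ∣_ O)) p) ∈
          closure ({x} : Set X.scheme) ∩ O := by
        refine ⟨?_, ((pieceMor (φ ⁻¹ᵁ O) y hy ≫ (φ ∣_ O)) p).2⟩
        rw [← Scheme.Hom.comp_apply, Category.assoc, morphismRestrict_ι, ← Category.assoc,
          pieceMor_ι, ← hyx]
        refine ((specializes_iff_mem_closure.2 ?_).map φ.continuous).mem_closure
        rw [← range_ptSubι]
        exact ⟨_, rfl⟩
      rw [← image_piece O x hx, ← pieceMor_ι] at h1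
      obtain ⟨q, hq⟩ := h1
      exact ⟨q, O.ι.isOpenEmbedding.injective hq⟩)
  have hp : IsProper (pieceMor (φ ⁻¹ᵁ O) y hy ≫ (φ ∣_ O)) :=
    MorphismProperty.comp_mem _ _ _ (inferInstance : IsProper (pieceMor (φ ⁻¹ᵁ O) y hy))
      (inferInstance : IsProper (φ ∣_ O))
  refine ⟨f, ?_, hf, ?_⟩
  · have h2 : IsProper (f ≫ pieceMor O x hx) := hf ▸ hp
    exact IsProper.of_comp f (pieceMor O x hx)
  · rw [← pieceMor_ι, ← Category.assoc, hf, Category.assoc, morphismRestrict_ι, ← Category.assoc,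
      pieceMor_ι, Category.assoc]

variable {q : ℕ} (hq : ∀ y : Y.scheme,
  WeilCoh.codim X.scheme (φ y) = q + WeilCoh.codim Y.scheme y)

include hq in
theorem containsFj_preimage {m : ℕ} {O : X.scheme.Opens} (hO : ContainsFj X (q + m) O) :
    ContainsFj Y m (φ ⁻¹ᵁ O) :=
  fun y hy => hO (φ y) (by rw [hq]; omega)

/-- The preimage of a stratum, when it is a stratum. -/
@[reducible] noncomputable def preU (U : Idx X (ContainsFj X q)) : Idx Y (ContainsFj Y 0) :=
  fjIdx (φ ⁻¹ᵁ U.1) (containsFj_preimage φ hq (m := 0) U.2.1)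

/-- The preimage of an open containing `F_(q+1)`. -/
@[reducible] noncomputable def preO (O : Idx X (ContainsFj X (q + 1))) :
    Idx Y (ContainsFj Y (0 + 1)) :=
  fjIdx (φ ⁻¹ᵁ O.1) (containsFj_preimage φ hq (m := 1) O.2.1)

include hq in
/-- After shrinking, the preimage of a stratum is a stratum. -/
theorem exists_stratum_pair (U : Idx X (ContainsFj X q)) :
    ∃ (S : Stratum X q) (S' : Stratum Y 0), S.U.1 ≤ U.1 ∧ S'.U = preU φ hq S.U ∧
      S'.O = preO φ hq S.O := by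
  obtain ⟨S, rfl⟩ := exists_stratum U
  obtain ⟨S', hS'⟩ := exists_stratum (preU φ hq S.U)
  let B : X.scheme.Opens := ⟨(φ '' (S'.O.1 : Set Y.scheme)ᶜ)ᶜ,
    (φ.isClosedMap _ S'.O.1.isOpen.isClosed_compl).isOpen_compl⟩
  let O₂ : Idx X (ContainsFj X (q + 1)) := fjIdx B (by
    rintro _ hy ⟨y, hy', rfl⟩
    rw [hq] at hy
    exact hy' (S'.O.2.1 y (by omega)))
  have hB : ∀ y : Y.scheme, φ y ∈ O₂.1 → y ∈ S'.O.1 := fun y hy =>
    by_contra fun h => hy ⟨y, h, rfl⟩
  refine ⟨S.restrict O₂, ⟨preU φ hq (S.restrict O₂).U, preO φ hq (S.restrict O₂).O,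
    fun y hy => (S.restrict O₂).le hy, fun y hy hyU => ?_, fun z z' y hy hz hz' => ?_⟩,
    S.restrict_U_le O₂, rfl, rfl⟩
  · have h1 : y ∉ S'.U.1 := by
      rw [hS']; exact fun h => hyU ⟨h, hy.2⟩
    obtain ⟨z, hz, hzy⟩ := S'.cover y (hB y hy.2) h1
    rw [hS'] at hz
    exact ⟨z, fun h => hz h.1, hzy⟩
  · refine S'.disj z z' y (hB y hy.2) ?_ ?_
    · rw [hS']
      exact fun h => hz ⟨h, O₂.2.1 (φ z.1) (by rw [hq, z.2])⟩
    · rw [hS']
      exact fun h => hz' ⟨h, O₂.2.1 (φ z'.1) (by rw [hq, z'.2])⟩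

end Groth.Agent.Lib.BMTheory
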