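import Groth.Agent.Lib.BMTheory.FiniteMap

/-!
Residues commute with push-forward along a finite morphism, stratum by stratum.
-/

set_option autoImplicit false
set_option linter.unusedSectionVars false

universe u

open AlgebraicGeometry CategoryTheory CategoryTheory.Limits Opposite TopologicalSpace Topology

namespace Groth.Agent.Lib.BMTheory

open BMCoh

variable {V : ObjectProperty Scheme.{u}} [IsConstructible V]
variable {R : Type u} [CommRing R] {A : Coefs R} (T : PreTheory V R A) (M : A.Cat)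

/-- Insensitivity of the residues to the scheme structure on the closed part. -/
def RedCompat : Prop :=
  ∀ (S : BMCoh.Obj V) (D D'' : BMCoh.Decomp S) (gU : D''.U ⟶ D.U)
    (k : D''.Z.scheme ⟶ D.Z.scheme) [IsClosedImmersion k] [AlgebraicGeometry.Surjective k],
    gU ≫ D.j = D''.j → k ≫ D.i = D''.i →
    ∀ (M : A.Cat) (i n i' n' : ℤ) (hi : i' = i + 1 - 2 * D.codim) (hn : n' = n - D.codim)
      (hi'' : i' = i + 1 - 2 * D''.codim) (hn'' : n' = n - D''.codim)
      (hk : i' = i' + 2 * BMCoh.relCodim D''.Z.scheme D.Z.scheme)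
      (hk' : n' = n' + BMCoh.relCodim D''.Z.scheme D.Z.scheme),
    T.pull gU M i n ≫ T.res D'' M i n i' n' hi'' hn'' ≫ T.push k M i' n' i' n' hk hk' =
      T.res D M i n i' n' hi hn

variable {Y X : Obj V} {q : ℕ} (S : Stratum X q) (S' : Stratum Y 0)

theorem res_push_stratum (hred : RedCompat T)
    (fO : (Y.res S'.O.1).scheme ⟶ (X.res S.O.1).scheme) [IsProper fO]
    (fU : (Y.res S'.U.1).scheme ⟶ (X.res S.U.1).scheme) [IsProper fU]
    (hsq : IsPullback S'.D.j.hom fU fO S.D.j.hom)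
    (hrange : Set.range S'.zi = fO ⁻¹' Set.range S.zi)
    (t : S'.Gen → S.Gen)
    (f : ∀ y : S'.Gen, ((Y.ptSub y.1.1).res (S'.pc y.1).1).scheme ⟶
      ((X.ptSub (t y).1.1).res (S.pc (t y).1).1).scheme)
    [∀ y, IsProper (f y)]
    (hf : ∀ y, f y ≫ pieceMor S.O.1 (t y).1.1 (S.mem_O (t y).1) =
      pieceMor S'.O.1 y.1.1 (S'.mem_O y.1) ≫ fO)
    (hfd : ∀ y : S'.Gen, relCodim ((Y.ptSub y.1.1).res (S'.pc y.1).1).scheme
      ((X.ptSub (t y).1.1).res (S.pc (t y).1).1).scheme = 0)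
    {i n i₁ n₁ i₂ n₂ : ℤ} (hs : i₁ = i + 2 * relCodim (Y.res S'.U.1).scheme (X.res S.U.1).scheme)
    (hs' : n₁ = n + relCodim (Y.res S'.U.1).scheme (X.res S.U.1).scheme)
    (hX : i₂ = i₁ + 1 - 2 * ((q : ℤ) + 1)) (hX' : n₂ = n₁ - ((q : ℤ) + 1))
    (hY : i₂ = i + 1 - 2 * (((0 : ℕ) : ℤ) + 1)) (hY' : n₂ = n - (((0 : ℕ) : ℤ) + 1))
    (x : S.Gen) (b : T.gp (Y.res S'.U.1) M i n) :
    (Stratum.comp T M S x hX hX').hom ((T.push fU M i n i₁ n₁ hs hs').hom b) =
      (T.pull (S.gmor x) M i₂ n₂).hom (∑ y : S'.Gen, (pushHom T M (S.gmor (t y)) i₂ n₂).hom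
        ((T.push (f y) M i₂ n₂ i₂ n₂ (by rw [hfd]; ring) (by rw [hfd]; ring)).hom
          ((Stratum.comp T M S' y hY hY').hom b))) := by
  have hD : i₂ = i₁ + 1 - 2 * S.D.codim := by rw [S.codim_D x]; exact hX
  have hD' : n₂ = n₁ - S.D.codim := by rw [S.codim_D x]; exact hX'
  rw [Stratum.comp_apply T M S x hX hX' hD hD']
  congr 1
  -- the scheme-theoretic inverse image of the closed part
  let p := pullback.fst fO S.zi
  have hp : IsClosedImmersion p := inferInstance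
  let Zp : Obj V := ⟨pullback fO S.zi, IsConstructible.of_isClosedImmersion p
    (h := hp) (Y.res S'.O.1).mem⟩
  have hrp : Set.range p = Set.range S'.zi := by
    rw [hrange]
    exact Scheme.Pullback.range_fst fO S.zi
  let Dp : Decomp (Y.res S'.O.1) :=
    { Z := Zp, U := Y.res S'.U.1, i := p, closedImm := hp, j := S'.D.j
      range_eq := S'.D.range_eq.trans (congrArg (·ᶜ) hrp.symm) }
  let fZ : Zp.scheme ⟶ S.Z.scheme := pullback.snd fO S.zi
  have hfZ : IsProper fZ := (inferInstance : IsProper (pullback.snd fO S.zi))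
  have hdim : WeilCoh.dim Zp.scheme = WeilCoh.dim S'.Z.scheme := by
    rw [dim_eq_sd_range (X := Zp.scheme) p p.isEmbedding, dim_eq_sd_range S'.zi S'.zi.isEmbedding,
      hrp]
  have hO : WeilCoh.dim (Y.res S'.O.1).scheme = WeilCoh.dim (Y.res S'.U.1).scheme :=
    S'.O.2.2.trans S'.U.2.2.symm
  have hOX : WeilCoh.dim (X.res S.O.1).scheme = WeilCoh.dim (X.res S.U.1).scheme :=
    S.O.2.2.trans S.U.2.2.symm
  have hSc := S.codim_D x
  -- the residue on `X` is the push-forward of the residue of the inverse image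
  have h1 : ∀ (e e' : ℤ) (ha : e = i + 1 - 2 * Dp.codim) (ha' : e' = n - Dp.codim)
      (he : i₂ = e + 2 * relCodim Zp.scheme S.Z.scheme)
      (he' : n₂ = e' + relCodim Zp.scheme S.Z.scheme),
      (T.res S.D M i₁ n₁ i₂ n₂ hD hD').hom ((T.push fU M i n i₁ n₁ hs hs').hom b) =
        (T.push fZ M e e' i₂ n₂ he he').hom ((T.res Dp M i n e e' ha ha').hom b) :=
    fun e e' ha ha' he he' => (ConcreteCategory.congr_hom (T.res_push S.D Dp fO fZ fU
      (IsPullback.of_hasPullback fO S.zi) hsq M i n e e' i₁ n₁ i₂ n₂ ha ha' hs hs' he he' hD hD')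
      b).symm
  rcases isEmpty_or_nonempty S'.Gen with he | ⟨⟨y₀⟩⟩
  · rw [Finset.univ_eq_empty, Finset.sum_empty]
    have : IsEmpty ↥Zp.scheme := ⟨fun z => by
      have hz : p z ∈ Set.range S'.zi := hrp ▸ ⟨z, rfl⟩
      obtain ⟨w, -⟩ := hz
      exact he.false (S'.gmor_cover w).choose⟩
    change (WeilCoh.dim (X.res S.O.1).scheme : ℤ) - WeilCoh.dim S.Z.scheme = _ at hSc
    rw [h1 (i + 1 - 2 * Dp.codim) (n - Dp.codim) rfl rfl
      (by
        change i₂ = i + 1 - 2 * ((WeilCoh.dim (Y.res S'.O.1).scheme : ℤ) - WeilCoh.dim Zp.scheme) +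
          2 * ((WeilCoh.dim S.Z.scheme : ℤ) - WeilCoh.dim Zp.scheme)
        unfold relCodim at hs
        omega)
      (by
        change n₂ = n - ((WeilCoh.dim (Y.res S'.O.1).scheme : ℤ) - WeilCoh.dim Zp.scheme) +
          ((WeilCoh.dim S.Z.scheme : ℤ) - WeilCoh.dim Zp.scheme)
        unfold relCodim at hs'
        omega),
      gp_eq_zero_of_isEmpty T M Zp _ _ ((T.res Dp M i n _ _ _ _).hom b), map_zero]
  have hS'c := S'.codim_D y₀
  have hc : Dp.codim = ((0 : ℕ) : ℤ) + 1 := by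
    rw [← hS'c]
    change ((WeilCoh.dim (Y.res S'.O.1).scheme : ℤ) - WeilCoh.dim Zp.scheme) =
      ((WeilCoh.dim (Y.res S'.O.1).scheme : ℤ) - WeilCoh.dim S'.Z.scheme)
    rw [hdim]
  have hk0 : relCodim S'.Z.scheme Zp.scheme = 0 := by
    unfold relCodim; rw [hdim, sub_self]
  have hZ0 : relCodim Zp.scheme S.Z.scheme = 0 := by
    have h2 : WeilCoh.dim ((Y.ptSub y₀.1.1).res (S'.pc y₀.1).1).scheme = _ := S'.dim_pc_eq y₀
    have h3 : WeilCoh.dim ((X.ptSub (t y₀).1.1).res (S.pc (t y₀).1).1).scheme = _ :=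
      S.dim_pc_eq (t y₀)
    have h4 := hfd y₀
    unfold relCodim at h4 ⊢
    omega
  -- the reduced closed part
  have hlift : Set.range (S'.zi ≫ fO) ⊆ Set.range S.zi := by
    rintro _ ⟨z, rfl⟩
    exact (hrange ▸ (⟨z, rfl⟩ : S'.zi z ∈ Set.range S'.zi) : S'.zi z ∈ fO ⁻¹' Set.range S.zi)
  obtain ⟨h, hh⟩ := H75.RedKer.exists_lift (S'.zi ≫ fO) S.zi hlift
  let k : S'.Z.scheme ⟶ Zp.scheme := pullback.lift S'.zi h hh.symm
  have hkp : k ≫ p = S'.zi := pullback.lift_fst _ _ _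
  have : IsClosedImmersion k := by
    have : IsClosedImmersion (k ≫ p) := hkp ▸ inferInstance
    exact IsClosedImmersion.of_comp k p
  have : Surjective k := ⟨fun z => by
    obtain ⟨w, hw⟩ : p z ∈ Set.range S'.zi := hrp ▸ ⟨z, rfl⟩
    exact ⟨w, p.isEmbedding.injective (((congr($hkp w)).trans hw : (k ≫ p) w = p z))⟩⟩
  have hkZ : k ≫ fZ = h := pullback.lift_snd _ _ _
  have ei : i₂ = i + 1 - 2 * Dp.codim := by rw [hc]; exact hY
  have en : n₂ = n - Dp.codim := by rw [hc]; exact hY'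
  have hi'' : i₂ = i + 1 - 2 * S'.D.codim := by rw [hS'c]; exact hY
  have hn'' : n₂ = n - S'.D.codim := by rw [hS'c]; exact hY'
  have hr := ConcreteCategory.congr_hom (hred (Y.res S'.O.1) Dp S'.D (𝟙 _) k
    (Category.id_comp _) hkp M i n i₂ n₂ ei en hi'' hn'' (by rw [hk0]; ring) (by rw [hk0]; ring)) b
  rw [pull_id] at hr
  rw [h1 i₂ n₂ ei en (by rw [hZ0]; ring) (by rw [hZ0]; ring), ← hr]
  have hres : (T.res S'.D M i n i₂ n₂ hi'' hn'').hom b =
      ∑ y : S'.Gen, (pushHom T M (S'.gmor y) _ _).hom ((Stratum.comp T M S' y hY hY').hom b) :=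
    eq_sum_pushHom T M S'.gmor S'.gmor_disjoint S'.gmor_cover _
  change (T.push fZ M i₂ n₂ i₂ n₂ _ _).hom ((T.push k M i₂ n₂ i₂ n₂ _ _).hom
    ((T.res S'.D M i n i₂ n₂ hi'' hn'').hom b)) = _
  rw [hres, map_sum, map_sum]
  refine Finset.sum_congr rfl fun y _ => ?_
  have e : (S'.gmor y).hom ≫ k ≫ fZ = f y ≫ (S.gmor (t y)).hom := by
    rw [← cancel_mono S.zi, hkZ, Category.assoc, Category.assoc, hh, ← Category.assoc,
      S'.gmor_fac, S.gmor_fac, hf]
  have hh0 : relCodim ((Y.ptSub y.1.1).res (S'.pc y.1).1).scheme S.Z.scheme = 0 := by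
    rw [relCodim_comp (Y := ((X.ptSub (t y).1.1).res (S.pc (t y).1).1).scheme), hfd,
      relCodim_hom (S.gmor (t y)), add_zero]
  have hg0 : relCodim ((Y.ptSub y.1.1).res (S'.pc y.1).1).scheme Zp.scheme = 0 := by
    rw [relCodim_comp (Y := S'.Z.scheme), relCodim_hom (S'.gmor y), hk0, add_zero]
  have e1 := T.push_comp (S'.gmor y).hom k M i₂ n₂ i₂ n₂ i₂ n₂ (hi₀ (S'.gmor y) i₂) (hn₀ (S'.gmor y) n₂)
    (by rw [hk0]; ring) (by rw [hk0]; ring) (by rw [hg0]; ring) (by rw [hg0]; ring)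
  have : IsProper ((S'.gmor y).hom ≫ k) := inferInstance
  have e2 := T.push_comp ((S'.gmor y).hom ≫ k) fZ M i₂ n₂ i₂ n₂ i₂ n₂ (by rw [hg0]; ring)
    (by rw [hg0]; ring) (by rw [hZ0]; ring) (by rw [hZ0]; ring) (by rw [hh0]; ring) (by rw [hh0]; ring)
  have e3 := T.push_comp (f y) (S.gmor (t y)).hom M i₂ n₂ i₂ n₂ i₂ n₂ (by rw [hfd]; ring)
    (by rw [hfd]; ring) (hi₀ (S.gmor (t y)) i₂) (hn₀ (S.gmor (t y)) n₂) (by rw [hh0]; ring)
    (by rw [hh0]; ring)
  rw [← e1, push_congr T M ((Category.assoc _ _ _).trans e), ← e3] at e2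
  exact ConcreteCategory.congr_hom e2 _

end Groth.Agent.Lib.BMTheory
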