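import Groth.Agent.Lib.BMTheory.PtMap
import Groth.Agent.Lib.Normalization.Birational
import Mathlib.AlgebraicGeometry.Morphisms.Finite

/-!
A finite normalisation of the closure of a point is an isomorphism over a nonempty open.
-/

set_option autoImplicit false
set_option linter.unusedSectionVars false

universe u

open AlgebraicGeometry CategoryTheory CategoryTheory.Limits Opposite TopologicalSpace Topology

namespace Groth.Agent.Lib.BMTheory

open BMCoh Groth.Agent.Lib.Normalization

theorem finite_integralClosure (X : Scheme.{u}) [IsIntegral X]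
    [QuasiCompact (X.fromSpecStalk (genericPoint X))]
    [QuasiSeparated (X.fromSpecStalk (genericPoint X))] [IsFinite (Curv2.normalizationι X)]
    (U : X.Opens) (_ : Nonempty U) (hU : IsAffineOpen U) :
    Module.Finite Γ(X, U) (integralClosure Γ(X, U) X.functionField) := by
  have h : ((Curv2.normalizationι X).app U).hom.Finite := IsFinite.finite_app _ U hU
  have h2 : (algebraMap Γ(X, U) (integralClosure Γ(X, U) X.functionField)).Finite := by
    have e : (algebraMap Γ(X, U) (integralClosure Γ(X, U) X.functionField)) =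
        (Basic.sectionsEquiv X hU).toRingHom.comp ((Curv2.normalizationι X).app U).hom :=
      RingHom.ext fun a => (Basic.sectionsEquiv_app X hU a).symm
    rw [e]
    exact (RingHom.Finite.of_surjective _ (Basic.sectionsEquiv X hU).surjective).comp h
  exact RingHom.finite_algebraMap.1 h2

variable {V : ObjectProperty Scheme.{u}} [IsConstructible V]

theorem isIso_ptSubι_genericPoint (Y : Obj V) [IsIntegral Y.scheme] :
    IsIso (Y.ptSubι (genericPoint Y.scheme)) := by
  have : Surjective (Y.ptSubι (genericPoint Y.scheme)) := ⟨fun z => by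
    have h : z ∈ Set.range (Y.ptSubι (genericPoint Y.scheme)) := by
      rw [range_ptSubι, genericPoint_closure]; trivial
    exact h⟩
  exact isIso_of_isClosedImmersion_of_surjective _

theorem exists_isIso_ptMap (X : Obj V) (w : X.scheme) [IsIntegral (X.ptSub w).scheme]
    [QuasiCompact ((X.ptSub w).scheme.fromSpecStalk (genericPoint (X.ptSub w).scheme))]
    [QuasiSeparated ((X.ptSub w).scheme.fromSpecStalk (genericPoint (X.ptSub w).scheme))]
    (Y : Obj V) [IsIntegral Y.scheme] (e : Y.scheme ≅ Curv2.normalization (X.ptSub w).scheme)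
    (φ : Y.scheme ⟶ X.scheme) [IsProper φ]
    (hφ : φ = e.hom ≫ Curv2.normalizationι (X.ptSub w).scheme ≫ X.ptSubι w) :
    ∃ (g : (Y.ptSub (genericPoint Y.scheme)).scheme ⟶ (X.ptSub w).scheme) (U : ptIdx X w),
      g ≫ X.ptSubι w = Y.ptSubι (genericPoint Y.scheme) ≫ φ ∧ IsIso (g ∣_ U.1) := by
  let ν := Curv2.normalizationι (X.ptSub w).scheme
  have hν : IsProper ν := by
    have : IsProper ((e.hom ≫ ν) ≫ X.ptSubι w) := by
      rw [Category.assoc, ← hφ]; infer_instance
    have := IsProper.of_comp (e.hom ≫ ν) (X.ptSubι w)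
    have h : IsProper (e.inv ≫ e.hom ≫ ν) := inferInstance
    rwa [Iso.inv_hom_id_assoc] at h
  have hint : IsIntegralHom ν :=
    (inferInstanceAs (IsIntegralHom
      ((X.ptSub w).scheme.fromSpecStalk (genericPoint (X.ptSub w).scheme)).fromNormalization))
  have : IsFinite ν := (IsFinite.iff_isIntegralHom_and_locallyOfFiniteType _).2 ⟨hint, inferInstance⟩
  obtain ⟨U, -, hne, hiso⟩ := Birational.exists_iso (X.ptSub w).scheme
    (finite_integralClosure (X.ptSub w).scheme)
  have := isIso_ptSubι_genericPoint Y
  let q := Y.ptSubι (genericPoint Y.scheme) ≫ e.hom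
  refine ⟨q ≫ ν, ptOfNonempty X w U hne, ?_, ?_⟩
  · rw [hφ]; simp [q, ν]
  · change IsIso ((q ≫ ν) ∣_ U)
    rw [morphismRestrict_comp]
    have : IsIso (ν ∣_ U) := hiso
    have : IsIso q := by unfold q; infer_instance
    have : IsIso (q ∣_ ν ⁻¹ᵁ U) :=
      (MorphismProperty.isomorphisms Scheme.{u}).of_isPullback
        (isPullback_morphismRestrict q (ν ⁻¹ᵁ U)).flip (inferInstanceAs (IsIso q))
    exact @IsIso.comp_isIso _ _ _ _ _ (q ∣_ ν ⁻¹ᵁ U) (ν ∣_ U) this hiso

end Groth.Agent.Lib.BMTheory
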