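import Groth.Agent.Lib.BMTheory.FirstDiff
import Groth.Agent.Lib.BMTheory.NormPoint
import Groth.Prelude.Def_BMCoh4

/-!
The first differential: residues of push-forwards from a point computed on its finite normalisation.
-/

set_option autoImplicit false
set_option linter.unusedSectionVars false

universe u

open AlgebraicGeometry CategoryTheory CategoryTheory.Limits Opposite TopologicalSpace Topology DirectSum

namespace Groth.Agent.Lib.BMTheory

open BMCoh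

variable {V : ObjectProperty Scheme.{u}} [IsConstructible V]
variable {R : Type u} [CommRing R] {A : Coefs R} (T : PreTheory V R A) (M : A.Cat)
variable {Y X : Obj V} (φ : Y.scheme ⟶ X.scheme) [IsProper φ] {q : ℕ}
  (hq : ∀ y : Y.scheme, WeilCoh.codim X.scheme (φ y) = q + WeilCoh.codim Y.scheme y)

theorem relCodim_pieces {y : Y.scheme} {x : X.scheme} (W : ptIdx Y y) (W' : ptIdx X x)
    (h : relCodim (Y.ptSub y).scheme (X.ptSub x).scheme = 0) :
    relCodim ((Y.ptSub y).res W.1).scheme ((X.ptSub x).res W'.1).scheme = 0 := by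
  have h1 : WeilCoh.dim ((Y.ptSub y).res W.1).scheme = WeilCoh.dim (Y.ptSub y).scheme := W.2.2
  have h2 : WeilCoh.dim ((X.ptSub x).res W'.1).scheme = WeilCoh.dim (X.ptSub x).scheme := W'.2.2
  unfold relCodim at h ⊢
  omega

include hq in
theorem relCodim_eq_of_codim [Nonempty ↥Y.scheme]
    (hp : ∀ y : Y.scheme, WeilCoh.pdim X.scheme (φ y) = WeilCoh.pdim Y.scheme y) :
    relCodim Y.scheme X.scheme = (q : ℤ) := by
  obtain ⟨y, hy⟩ := exists_pdim_eq_dim Y
  have h1 := hq y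
  have h2 := hp y
  have h3 := codim_add_pdim X (φ y)
  have h4 := codim_add_pdim Y y
  unfold relCodim
  omega

include hq in
theorem resTot_push_eq_famTot (hred : RedCompat T) (hqc : relCodim Y.scheme X.scheme = (q : ℤ))
    (Q : T.ResData X q) (Q' : T.ResData Y 0) (t : Y.cdPt 1 → X.cdPt (q + 1))
    (F : ∀ y : Y.cdPt 1, T.PtPush φ y.1 (t y).1)
    (U : Idx X (ContainsFj X q)) {i n i₁ n₁ i₂ n₂ : ℤ}
    (h1 : i₁ = i + 2 * (q : ℤ)) (h1' : n₁ = n + (q : ℤ))
    (h2 : i₂ = i₁ + 1 - 2 * ((q : ℤ) + 1)) (h2' : n₂ = n₁ - ((q : ℤ) + 1))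
    (h4 : i₂ = i + 1 - 2 * (((0 : ℕ) : ℤ) + 1)) (h4' : n₂ = n - (((0 : ℕ) : ℤ) + 1))
    (hU : i₁ = i + 2 * relCodim (Y.res (preU φ hq U).1).scheme (X.res U.1).scheme)
    (hU' : n₁ = n + relCodim (Y.res (preU φ hq U).1).scheme (X.res U.1).scheme)
    (b : T.gp (Y.res (preU φ hq U).1) M i n) :
    (Q.tot M i₁ n₁ i₂ n₂ h2 h2').hom (((T.fjι X q i₁ n₁ U).app M).hom
        ((T.push (restrictMor φ U.1) M i n i₁ n₁ hU hU').hom b)) =
      (BMCoh.PreTheory.PtPush.famTot t F M i₂ n₂).hom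
        ((Q'.tot M i n i₂ n₂ h4 h4').hom (((T.fjι Y 0 i n (preU φ hq U)).app M).hom b)) := by
  classical
  obtain ⟨S, ⟨U', O', le', cov', disj'⟩, hle, hU'eq, hO'eq⟩ := exists_stratum_pair φ hq U
  obtain rfl : U' = preU φ hq S.U := hU'eq
  obtain rfl : O' = preO φ hq S.O := hO'eq
  set S' : Stratum Y 0 := ⟨preU φ hq S.U, preO φ hq S.O, le', cov', disj'⟩ with hS'
  -- replace `U` by the smaller open of the stratum
  have hV : ∀ (W : Idx X (ContainsFj X q)),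
      relCodim (Y.res (preU φ hq W).1).scheme (X.res W.1).scheme = (q : ℤ) := fun W =>
    (relCodim_resIdx (preU φ hq W) W).trans hqc
  have hS1 : i₁ = i + 2 * relCodim (Y.res (preU φ hq S.U).1).scheme (X.res S.U.1).scheme := by
    rw [hV]; exact h1
  have hS2 : n₁ = n + relCodim (Y.res (preU φ hq S.U).1).scheme (X.res S.U.1).scheme := by
    rw [hV]; exact h1'
  let b₁ := (T.pull (rle (U := preU φ hq U) (U' := preU φ hq S.U) fun y hy => hle hy) M i n).hom b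
  have e1 : (T.pull (rle hle) M i₁ n₁).hom ((T.push (restrictMor φ U.1) M i n i₁ n₁ hU hU').hom b) =
      (T.push (restrictMor φ S.U.1) M i n i₁ n₁ hS1 hS2).hom b₁ :=
    ConcreteCategory.congr_hom (T.push_pull (restrictMor φ U.1) (restrictMor φ S.U.1) (rle hle)
      (rle (U := preU φ hq U) (U' := preU φ hq S.U) fun y hy => hle hy)
      (isPullback_restrict_le φ hle (fun y hy => hle hy)) M i n i₁ n₁ hU hU' hS1 hS2) b
  rw [← ι_rle_apply T M i₁ n₁ hle, e1,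
    ← ι_rle_apply T M i n (U := preU φ hq U) (U' := preU φ hq S.U) (fun y hy => hle hy) b]
  change (Q.tot M i₁ n₁ i₂ n₂ h2 h2').hom (((T.fjι X q i₁ n₁ S.U).app M).hom
      ((T.push (restrictMor φ S.U.1) M i n i₁ n₁ hS1 hS2).hom b₁)) =
    (BMCoh.PreTheory.PtPush.famTot t F M i₂ n₂).hom
      ((Q'.tot M i n i₂ n₂ h4 h4').hom (((T.fjι Y 0 i n S'.U).app M).hom b₁))
  -- the points and the maps between pieces
  have htU : ∀ y : S'.Gen, (t y.1).1 ∉ S.U.1 := fun y h => y.2 (by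
    change φ y.1.1 ∈ S.U.1
    rw [show φ y.1.1 = (t y.1).1 from (F y.1).maps_pt]; exact h)
  let tg : S'.Gen → S.Gen := fun y => ⟨t y.1, htU y⟩
  choose f hfp hfc hfι using fun y : S'.Gen =>
    exists_pieceMap φ S.O.1 y.1.1 (t y.1).1 (F y.1).maps_pt (S.mem_O (t y.1)) (S'.mem_O y.1)
  have hfd : ∀ y : S'.Gen, relCodim ((Y.ptSub y.1.1).res (S'.pc y.1).1).scheme
      ((X.ptSub (tg y).1.1).res (S.pc (tg y).1).1).scheme = 0 := fun y =>
    relCodim_pieces _ _ (F y.1).codim_eq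
  have hfp' : ∀ y : S'.Gen, @IsProper ((Y.ptSub y.1.1).res (S'.pc y.1).1).scheme
      ((X.ptSub (tg y).1.1).res (S.pc (tg y).1).1).scheme (f y) := hfp
  let e : ∀ y : S'.Gen, T.gp ((X.ptSub (tg y).1.1).res (S.pc (tg y).1).1) M i₂ n₂ := fun y =>
    (@PreTheory.push V R _ A T ((Y.ptSub y.1.1).res (S'.pc y.1).1)
      ((X.ptSub (tg y).1.1).res (S.pc (tg y).1).1) (f y) (hfp' y) M i₂ n₂ i₂ n₂
      (by rw [hfd]; ring) (by rw [hfd]; ring)).hom ((Stratum.comp T M S' y h4 h4').hom b₁)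
  have hrange : Set.range S'.zi = restrictMor φ S.O.1 ⁻¹' Set.range S.zi := by
    rw [S'.range_zi, S.range_zi, ← Set.preimage_comp, ← TopCat.coe_comp, ← Scheme.Hom.comp_base,
      show restrictMor φ S.O.1 ≫ S.O.1.ι = (φ ⁻¹ᵁ S.O.1).ι ≫ φ from morphismRestrict_ι _ _]
    rfl
  have hcomp : ∀ x : S.Gen, (Stratum.comp T M S x h2 h2').hom
      ((T.push (restrictMor φ S.U.1) M i n i₁ n₁ hS1 hS2).hom b₁) =
      (T.pull (S.gmor x) M i₂ n₂).hom
        (∑ y : S'.Gen, (pushHom T M (S.gmor (tg y)) i₂ n₂).hom (e y)) := fun x => by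
    have : ∀ y, IsProper (f y) := hfp'
    exact res_push_stratum T M S S' hred (restrictMor φ S.O.1) (restrictMor φ S.U.1)
      (isPullback_restrict_le φ S.le (fun y hy => S.le hy)) hrange tg f hfc hfd hS1 hS2 h2 h2'
      h4 h4' x b₁
  -- compare the components
  rw [show (Q'.tot M i n i₂ n₂ h4 h4').hom (((T.fjι Y 0 i n S'.U).app M).hom b₁) = _ from
    sum_gen_lof T M S' _ (resTot_apply_mem T M Q' S'.U h4 h4' b₁), map_sum]
  refine DFinsupp.ext fun x => ?_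
  rw [DFinsupp.finsetSum_apply]
  have hterm : ∀ y : S'.Gen, (BMCoh.PreTheory.PtPush.famTot t F M i₂ n₂).hom
      (DirectSum.lof R (Y.cdPt (0 + 1)) (fun z : Y.cdPt (0 + 1) => T.ptGp Y z.1 M i₂ n₂) y.1
        ((Q'.tot M i n i₂ n₂ h4 h4').hom (((T.fjι Y 0 i n S'.U).app M).hom b₁) y.1)) =
      DirectSum.lof R (X.cdPt (q + 1)) (fun z : X.cdPt (q + 1) => T.ptGp X z.1 M i₂ n₂) (t y.1)
        (((T.ptι X (t y.1).1 i₂ n₂ (S.pc (tg y).1)).app M).hom (e y)) := by
    intro y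
    refine (BMCoh.PreTheory.PtPush.famTot_lof (j := 1) t F M i₂ n₂ y.1 _).trans ?_
    refine congrArg _ ?_
    refine (congrArg ((F y.1).cpt M i₂ n₂).hom (Stratum.resData_cpt T M S' Q' y h4 h4' b₁)).trans ?_
    exact ConcreteCategory.congr_hom
      (@PreTheory.PtPush.cpt_spec V _ R _ A T Y X φ y.1.1 (t y.1).1 (F y.1) M i₂ n₂ (S'.pc y.1)
        (S.pc (tg y).1) (f y) (hfp' y) (hfι y) _ _) _
  refine Eq.trans ?_ (Finset.sum_congr rfl fun y _ => (congrArg (fun ξ : T.ptSum X (q + 1) M i₂ n₂ =>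
    ξ x) (hterm y)).symm)
  by_cases hx : x.1 ∈ S.U.1
  · rw [resTot_apply_mem T M Q S.U h2 h2' _ x hx]
    refine (Finset.sum_eq_zero fun y _ => ?_).symm
    rw [DirectSum.lof_eq_of]
    exact DirectSum.of_eq_of_ne (β := fun z : X.cdPt (q + 1) => T.ptGp X z.1 M i₂ n₂) _ _ _
      fun h => htU y (h ▸ hx)
  · refine (Stratum.resData_cpt T M S Q ⟨x, hx⟩ h2 h2' _).trans ?_
    rw [hcomp, map_sum, map_sum]
    refine Finset.sum_congr rfl fun y _ => ?_
    rw [DirectSum.lof_eq_of]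
    by_cases h : tg y = ⟨x, hx⟩
    · obtain rfl : t y.1 = x := congrArg Subtype.val h
      rw [show (DirectSum.of (fun z : X.cdPt (q + 1) => T.ptGp X z.1 M i₂ n₂) (t y.1) _) (t y.1) = _
        from DirectSum.of_eq_same (β := fun z : X.cdPt (q + 1) => T.ptGp X z.1 M i₂ n₂) _ _]
      exact congrArg _ (pull_pushHom_self T M (S.gmor (tg y)) (e y))
    · refine Eq.trans ?_ (DirectSum.of_eq_of_ne
        (β := fun z : X.cdPt (q + 1) => T.ptGp X z.1 M i₂ n₂) _ _ _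
        fun h' => h (Subtype.ext h'.symm)).symm
      rw [pull_pushHom_disjoint T M _ _ (S.gmor_disjoint (Ne.symm h)), map_zero]

include hq in
/-- The residues of the image of a class of the generic point. -/
theorem resTot_pushCpt_eq (hred : RedCompat T) (hqc : relCodim Y.scheme X.scheme = (q : ℤ))
    (η : Y.cdPt 0) (w : X.cdPt q) (L : T.PtPush φ η.1 w.1) (P : T.PushData X q) (Q : T.ResData X q)
    (P' : T.PushData Y 0) (Q' : T.ResData Y 0) (t : Y.cdPt 1 → X.cdPt (q + 1))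
    (F : ∀ y : Y.cdPt 1, T.PtPush φ y.1 (t y).1) {i n i₁ n₁ i₂ n₂ : ℤ}
    (h1 : i₁ = i + 2 * (q : ℤ)) (h1' : n₁ = n + (q : ℤ))
    (h2 : i₂ = i₁ + 1 - 2 * ((q : ℤ) + 1)) (h2' : n₂ = n₁ - ((q : ℤ) + 1))
    (h3 : i = i + 2 * ((0 : ℕ) : ℤ)) (h3' : n = n + ((0 : ℕ) : ℤ))
    (h4 : i₂ = i + 1 - 2 * (((0 : ℕ) : ℤ) + 1)) (h4' : n₂ = n - (((0 : ℕ) : ℤ) + 1))
    (a : T.ptGp Y η.1 M i n) :
    (Q.tot M i₁ n₁ i₂ n₂ h2 h2').hom ((P.cpt w M i n i₁ n₁ h1 h1').hom ((L.cpt M i n).hom a)) =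
      (BMCoh.PreTheory.PtPush.famTot t F M i₂ n₂).hom
        ((Q'.tot M i n i₂ n₂ h4 h4').hom ((P'.cpt η M i n i n h3 h3').hom a)) := by
  obtain ⟨OY, hOY⟩ := exists_piece_rep T M η a
  -- an open of `X` with small preimage
  let B : X.scheme.Opens := ⟨(φ '' (OY.1 : Set Y.scheme)ᶜ)ᶜ,
    (φ.isClosedMap _ OY.1.isOpen.isClosed_compl).isOpen_compl⟩
  let U : Idx X (ContainsFj X q) := fjIdx B (by
    rintro _ hy ⟨y, hy', rfl⟩
    rw [hq] at hy
    exact hy' (OY.2.1 y (by omega)))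
  obtain ⟨d, rfl⟩ := hOY (preU φ hq U) (fun y hy => by_contra fun h => hy ⟨y, h, rfl⟩)
  obtain ⟨f, hfp, hfc, hfι⟩ := exists_pieceMap φ U.1 η.1 w.1 L.maps_pt (U.2.1 w.1 w.2.le)
    ((preU φ hq U).2.1 η.1 η.2.le)
  have hfd := relCodim_pieces (piece (φ ⁻¹ᵁ U.1) η.1 ((preU φ hq U).2.1 η.1 η.2.le))
    (piece U.1 w.1 (U.2.1 w.1 w.2.le)) L.codim_eq
  have hV : relCodim (Y.res (preU φ hq U).1).scheme (X.res U.1).scheme = (q : ℤ) :=
    (relCodim_resIdx (preU φ hq U) U).trans hqc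
  have eL := ConcreteCategory.congr_hom
    (@PreTheory.PtPush.cpt_spec V _ R _ A T Y X φ η.1 w.1 L M i n
      (piece (φ ⁻¹ᵁ U.1) η.1 ((preU φ hq U).2.1 η.1 η.2.le)) (piece U.1 w.1 (U.2.1 w.1 w.2.le))
      f hfp hfι (by rw [hfd]; ring) (by rw [hfd]; ring)) d
  erw [eL, pushData_cpt_ι T M P w U h1 h1', pushData_cpt_ι T M P' η (preU φ hq U) h3 h3']
  have hc : relCodim ((Y.ptSub η.1).res (piece (φ ⁻¹ᵁ U.1) η.1
      ((preU φ hq U).2.1 η.1 η.2.le)).1).scheme (X.res U.1).scheme = (q : ℤ) := by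
    rw [relCodim_comp (Y := (Y.res (preU φ hq U).1).scheme), hV,
      relCodim_ptIdx (preU φ hq U), η.2]
    simp
  have p1 := T.push_comp f (pieceMor U.1 w.1 (U.2.1 w.1 w.2.le)) M i n i n i₁ n₁
    (by rw [hfd]; ring) (by rw [hfd]; ring)
    (by rw [relCodim_ptIdx U, w.2]; exact h1) (by rw [relCodim_ptIdx U, w.2]; exact h1')
    (by rw [hc]; exact h1) (by rw [hc]; exact h1')
  have p2 := T.push_comp (Y := Y.res (preU φ hq U).1)
    (pieceMor (φ ⁻¹ᵁ U.1) η.1 ((preU φ hq U).2.1 η.1 η.2.le)) (restrictMor φ U.1) M i n i n i₁ n₁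
    (by rw [relCodim_ptIdx (preU φ hq U), η.2]; simp)
    (by rw [relCodim_ptIdx (preU φ hq U), η.2]; simp)
    (by rw [hV]; exact h1) (by rw [hV]; exact h1')
    (by rw [hc]; exact h1) (by rw [hc]; exact h1')
  have p3 := ConcreteCategory.congr_hom ((p1.trans (push_congr T M hfc _ _)).trans p2.symm) d
  have p4 := resTot_push_eq_famTot T M φ hq hred hqc Q Q' t F U h1 h1' h2 h2' h4 h4'
    (by rw [hV]; exact h1) (by rw [hV]; exact h1')
    ((pushPiece T M (preU φ hq U) η.1 ((preU φ hq U).2.1 η.1 η.2.le) η.2 h3 h3').hom d)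
  refine Eq.trans ?_ p4
  exact congrArg _ (congrArg _ p3)

theorem resTot_pushCpt_normalization (X : Obj V) (w : X.cdPt q)
    [IsIntegral (X.ptSub w.1).scheme]
    [QuasiCompact ((X.ptSub w.1).scheme.fromSpecStalk (genericPoint (X.ptSub w.1).scheme))]
    [QuasiSeparated ((X.ptSub w.1).scheme.fromSpecStalk (genericPoint (X.ptSub w.1).scheme))]
    (Y : Obj V) [IsIntegral Y.scheme] (e : Y.scheme ≅ Curv2.normalization (X.ptSub w.1).scheme)
    (φ : Y.scheme ⟶ X.scheme) [IsProper φ]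
    (hφ : φ = e.hom ≫ Curv2.normalizationι (X.ptSub w.1).scheme ≫ X.ptSubι w.1)
    (hη : WeilCoh.codim Y.scheme (genericPoint Y.scheme) = 0)
    (hw : φ (genericPoint Y.scheme) = w.1) :
    (∀ y : Y.scheme, WeilCoh.codim X.scheme (φ y) = q + WeilCoh.codim Y.scheme y) ∧
      relCodim Y.scheme X.scheme = (q : ℤ) := by
  have : IsIntegralHom φ := by
    rw [hφ]
    have : IsIntegralHom (Curv2.normalizationι (X.ptSub w.1).scheme) :=
      (inferInstanceAs (IsIntegralHom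
        ((X.ptSub w.1).scheme.fromSpecStalk (genericPoint (X.ptSub w.1).scheme)).fromNormalization))
    infer_instance
  have h0 := pdim_map_eq φ (genericPoint Y.scheme)
  rw [hw] at h0
  have h1 := codim_add_pdim X w.1
  have h2 := codim_add_pdim Y (genericPoint Y.scheme)
  have h3 := w.2
  refine ⟨fun y => ?_, by unfold relCodim; omega⟩
  have h4 := pdim_map_eq φ y
  have h5 := codim_add_pdim X (φ y)
  have h6 := codim_add_pdim Y y
  omega

end Groth.Agent.Lib.BMTheory
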