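import Groth.Agent.Lib.BMTheory.ExactFj

/-!
The groups of `F_0` of a reduced object, vanishing ranges, and comparison with the groups of the
object.
-/

set_option autoImplicit false
set_option linter.unusedSectionVars false

universe u

open AlgebraicGeometry CategoryTheory CategoryTheory.Limits Opposite TopologicalSpace Topology DirectSum

namespace Groth.Agent.Lib.BMTheory

open BMCoh

variable {V : ObjectProperty Scheme.{u}} [IsConstructible V] {X : Obj V}

/-- An open containing `F_0` which is the disjoint union of its traces on the top components. -/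
structure TopOpen (X : Obj V) where
  /-- The open. -/
  U : Idx X (ContainsFj X 0)
  cover : ∀ y ∈ U.1, ∃ x : X.cdPt 0, x.1 ⤳ y
  disj : ∀ (x x' : X.cdPt 0) (y : X.scheme), y ∈ U.1 → x.1 ⤳ y → x'.1 ⤳ y → x = x'

theorem finite_cdPt_zero (X : Obj V) : Finite (X.cdPt 0) := by
  obtain ⟨G, hGf, -, hG⟩ := exists_finite_generic (X := X) (C := Set.univ) isClosed_univ
  have := hGf.to_subtype
  refine Finite.of_surjective (α := {g : G // WeilCoh.codim X.scheme g.1 = 0})
    (fun g => ⟨g.1.1, g.2⟩) fun x => ?_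
  obtain ⟨g, hg, hgx⟩ := hG x.1 trivial
  have e := eq_of_specializes_of_codim hgx (x.2.le.trans (Nat.zero_le _))
  exact ⟨⟨⟨g, hg⟩, (congrArg _ e).trans x.2⟩, Subtype.ext e⟩

noncomputable instance fintype_cdPt_zero : Fintype (X.cdPt 0) :=
  @Fintype.ofFinite _ (finite_cdPt_zero X)

theorem exists_topOpen (U : Idx X (ContainsFj X 0)) : ∃ S : TopOpen X, S.U.1 ≤ U.1 := by
  obtain ⟨G, hGf, -, hG⟩ := exists_finite_generic (X := X) (C := Set.univ) isClosed_univ
  let E : Set X.scheme := {g | g ∈ G ∧ WeilCoh.codim X.scheme g ≠ 0}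
  have hE : E.Finite := hGf.subset fun _ h => h.1
  let B : Set X.scheme := ⋃ p ∈ {p : X.cdPt 0 × X.cdPt 0 | p.1 ≠ p.2},
    closure ({p.1.1} : Set X.scheme) ∩ closure {p.2.1}
  have hB : IsClosed B :=
    (Set.toFinite _).isClosed_biUnion fun _ _ => isClosed_closure.inter isClosed_closure
  let O : X.scheme.Opens := U.1 ⊓ (avoid E hE ⊓ ⟨Bᶜ, hB.isOpen_compl⟩)
  have hO : ContainsFj X 0 O := by
    intro y hy
    refine ⟨U.2.1 y hy, mem_avoid.2 fun g hg hgy => ?_, fun hyB => ?_⟩
    · have := hg.2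
      have := codim_le_of_specializes X hgy
      omega
    · obtain ⟨p, hne, hy1, hy2⟩ := Set.mem_iUnion₂.1 hyB
      refine hne (Subtype.ext ?_)
      exact (eq_of_specializes_of_codim (specializes_iff_mem_closure.2 hy1)
        (hy.trans (Nat.zero_le _))).trans
        (eq_of_specializes_of_codim (specializes_iff_mem_closure.2 hy2)
          (hy.trans (Nat.zero_le _))).symm
  refine ⟨⟨fjIdx O hO, fun y hy => ?_, fun x x' y hy hxy hx'y => ?_⟩, inf_le_left⟩
  · obtain ⟨g, hg, hgy⟩ := hG y trivial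
    have hc : WeilCoh.codim X.scheme g = 0 := by
      by_contra h; exact (mem_avoid (hs := hE)).1 hy.2.1 g ⟨hg, h⟩ hgy
    exact ⟨⟨g, hc⟩, hgy⟩
  · by_contra hne
    exact hy.2.2 (Set.mem_iUnion₂.2 ⟨(x, x'), hne, hxy.mem_closure, hx'y.mem_closure⟩)

namespace TopOpen

variable (S : TopOpen X)

theorem mem_U (x : X.cdPt 0) : x.1 ∈ S.U.1 := S.U.2.1 x.1 x.2.le

theorem range_pieceMor (x : X.cdPt 0) :
    Set.range (pieceMor S.U.1 x.1 (S.mem_U x)) = S.U.1.ι ⁻¹' closure ({x.1} : Set X.scheme) := by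
  have := Set.preimage_image_eq (Set.range (pieceMor S.U.1 x.1 (S.mem_U x)))
    S.U.1.ι.isOpenEmbedding.injective
  rw [← this, ← Set.range_comp, ← TopCat.coe_comp, ← Scheme.Hom.comp_base, pieceMor_ι, image_piece]
  exact Set.ext fun y => ⟨fun h => h.1, fun h => ⟨h, y.2⟩⟩

variable [IsReduced X.scheme]

theorem exists_hom (x : X.cdPt 0) :
    ∃ g : (X.ptSub x.1).res (piece S.U.1 x.1 (S.mem_U x)).1 ⟶ X.res S.U.1,
      g.hom = pieceMor S.U.1 x.1 (S.mem_U x) := by
  let others : Set X.scheme := Subtype.val '' {y : X.cdPt 0 | y ≠ x}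
  have ho : others.Finite := (Set.toFinite _).image _
  have hr : Set.range (pieceMor S.U.1 x.1 (S.mem_U x)) =
      Set.range (𝟙 (X.res S.U.1).scheme : (X.res S.U.1).scheme ⟶ _) ∩
        (S.U.1.ι ⁻¹ᵁ avoid others ho : (X.res S.U.1).scheme.Opens) := by
    rw [range_pieceMor]
    ext y
    constructor
    · intro h
      have hx : x.1 ⤳ S.U.1.ι y := specializes_iff_mem_closure.2 h
      refine ⟨⟨y, rfl⟩, (mem_avoid (hs := ho)).2 ?_⟩
      rintro _ ⟨x', hne, rfl⟩ hx'
      exact hne (S.disj x' x _ y.2 hx' hx)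
    · rintro ⟨-, ha⟩
      obtain ⟨x', hxy⟩ := S.cover _ y.2
      by_cases h : x' = x
      · subst h; exact hxy.mem_closure
      · exact absurd hxy ((mem_avoid (hs := ho)).1 ha x'.1 ⟨_, h, rfl⟩)
  have hd : WeilCoh.dim ((X.ptSub x.1).res (piece S.U.1 x.1 (S.mem_U x)).1).scheme =
      WeilCoh.dim (X.res S.U.1).scheme := by
    refine (dim_ptSub_open X x.1 _ (piece S.U.1 x.1 (S.mem_U x)).2.1).trans (Eq.trans ?_ S.U.2.2.symm)
    have h1 := codim_add_pdim X x.1
    have h2 := x.2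
    omega
  obtain ⟨g, hg⟩ := exists_openHom _ _ _ hr hd
  exact ⟨g, (Category.comp_id _).symm.trans hg⟩

/-- The trace of a top component as a morphism of objects. -/
noncomputable def gmor (x : X.cdPt 0) :
    (X.ptSub x.1).res (piece S.U.1 x.1 (S.mem_U x)).1 ⟶ X.res S.U.1 :=
  (S.exists_hom x).choose

theorem gmor_hom (x : X.cdPt 0) : (S.gmor x).hom = pieceMor S.U.1 x.1 (S.mem_U x) :=
  (S.exists_hom x).choose_spec

instance (x : X.cdPt 0) : IsClosedImmersion (S.gmor x).hom := by rw [gmor_hom]; infer_instance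

theorem mem_range (x : X.cdPt 0) (y : (X.res S.U.1).scheme) :
    y ∈ Set.range (S.gmor x).hom ↔ x.1 ⤳ S.U.1.ι y := by
  rw [gmor_hom, range_pieceMor, Set.mem_preimage, specializes_iff_mem_closure]

theorem gmor_disjoint :
    Pairwise fun x y : X.cdPt 0 => Disjoint (Set.range (S.gmor x).hom) (Set.range (S.gmor y).hom) :=
  fun x y hne => Set.disjoint_left.2 fun z hx hy =>
    hne (S.disj x y _ z.2 ((S.mem_range x z).1 hx) ((S.mem_range y z).1 hy))

theorem gmor_cover (z : (X.res S.U.1).scheme) : ∃ x : X.cdPt 0, z ∈ Set.range (S.gmor x).hom := by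
  obtain ⟨x, hx⟩ := S.cover _ z.2
  exact ⟨x, (S.mem_range x z).2 hx⟩

variable {R : Type u} [CommRing R] {A : Coefs R} (T : PreTheory V R A) (M : A.Cat)

theorem pushPiece_eq {i n : ℤ} (x : X.cdPt 0) (hp : i = i + 2 * ((0 : ℕ) : ℤ))
    (hm : n = n + ((0 : ℕ) : ℤ)) :
    pushPiece T M S.U x.1 (S.mem_U x) x.2 hp hm = pushHom T M (S.gmor x) i n :=
  push_congr T M (S.gmor_hom x).symm _ _

theorem pull_gmor {S' : TopOpen X} (h : S'.U.1 ≤ S.U.1) (x : X.cdPt 0) {i n : ℤ}
    (a : T.gp (X.res S.U.1) M i n) :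
    (T.pull (S'.gmor x) M i n).hom ((T.pull (rle h) M i n).hom a) =
      (T.pull (rle (piece_mono h x.1 (S'.mem_U x))) M i n).hom
        ((T.pull (S.gmor x) M i n).hom a) := by
  have e : S'.gmor x ≫ rle h = rle (piece_mono h x.1 (S'.mem_U x)) ≫ S.gmor x := by
    refine Hom.ext ?_
    rw [comp_hom, comp_hom, gmor_hom, gmor_hom]
    exact (isPullback_pieceMor h x.1 (S'.mem_U x)).w.symm
  rw [pull_pull, pull_pull, e]

/-- A class on a good open whose components die at the points dies in `F_0`. -/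
theorem ι_eq_zero {i n : ℤ} (a : T.gp (X.res S.U.1) M i n)
    (h : ∀ x : X.cdPt 0, ((T.ptι X x.1 i n (piece S.U.1 x.1 (S.mem_U x))).app M).hom
      ((T.pull (S.gmor x) M i n).hom a) = 0) :
    ((T.fjι X 0 i n S.U).app M).hom a = 0 := by
  choose W hW hW0 using fun x : X.cdPt 0 => (ocolim_eq_zero_iff T M i n _).1 (h x)
  obtain ⟨O₁, hO₁⟩ := exists_open_cuts (X := X) (j := 0) (fun x : X.cdPt 0 => x.1)
    (fun x => Nat.zero_le _) W
  obtain ⟨S', hS'⟩ := exists_topOpen (X := X)
    (fjIdx (S.U.1 ⊓ O₁.1) fun y hy => ⟨S.U.2.1 y hy, O₁.2.1 y hy⟩)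
  refine (ocolim_eq_zero_iff T M i n _).2 ⟨S'.U, hS'.trans inf_le_left, ?_⟩
  refine eq_zero_of_pull_family T M S'.gmor S'.gmor_disjoint S'.gmor_cover _ fun x => ?_
  rw [S.pull_gmor T M (hS'.trans inf_le_left) x]
  have hle : (piece S'.U.1 x.1 (S'.mem_U x)).1 ≤ (W x).1 :=
    piece_le_of_le_cutOpen ((hS'.trans inf_le_right).trans (hO₁ x)) _
  rw [← pull_rle_rle T M (hW x) hle, hW0 x, map_zero]

end TopOpen

section

variable {R : Type u} [CommRing R] {A : Coefs R} (T : PreTheory V R A) (M : A.Cat)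

theorem pushData_tot_bijective_zero [IsReduced X.scheme] (P : T.PushData X 0) (i n : ℤ)
    (hp : i = i + 2 * ((0 : ℕ) : ℤ)) (hm : n = n + ((0 : ℕ) : ℤ)) :
    Function.Bijective (P.tot M i n i n hp hm).hom := by
  classical
  have hsum : ∀ (S : TopOpen X) (ξ : T.ptSum X 0 M i n)
      (d : ∀ x : X.cdPt 0, T.gp ((X.ptSub x.1).res (piece S.U.1 x.1 (S.mem_U x)).1) M i n),
      (∀ x : X.cdPt 0,
        ((T.ptι X x.1 i n (piece S.U.1 x.1 (S.mem_U x))).app M).hom (d x) = ξ x) →
      (P.tot M i n i n hp hm).hom ξ = ((T.fjι X 0 i n S.U).app M).hom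
        (∑ x : X.cdPt 0, (pushHom T M (S.gmor x) i n).hom (d x)) := by
    intro S ξ d hd
    conv_lhs => rw [← DirectSum.sum_univ_of ξ]
    rw [map_sum, map_sum]
    refine Finset.sum_congr rfl fun x _ => ?_
    rw [← DirectSum.lof_eq_of R, PreTheory.PushData.tot_lof, ← hd, pushData_cpt_ι,
      S.pushPiece_eq T M x]
  constructor
  · refine (injective_iff_map_eq_zero _).2 fun ξ hξ => ?_
    choose O hO using fun x : X.cdPt 0 => exists_piece_rep T M x (ξ x)
    obtain ⟨O₁, hO₁⟩ := exists_lower O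
    obtain ⟨S, hS⟩ := exists_topOpen O₁
    choose d hd using fun x : X.cdPt 0 => hO x S.U (hS.trans (hO₁ x))
    rw [hsum S ξ d hd] at hξ
    obtain ⟨U', hU', h0⟩ := (ocolim_eq_zero_iff T M i n _).1 hξ
    obtain ⟨S', hS'⟩ := exists_topOpen U'
    refine DFinsupp.ext fun x => ?_
    have h1 : (T.pull (rle (hS'.trans hU')) M i n).hom
        (∑ y, (pushHom T M (S.gmor y) i n).hom (d y)) = 0 := by
      rw [← pull_rle_rle T M hU' hS', h0, map_zero]
    have h2 := congrArg (T.pull (S'.gmor x) M i n).hom h1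
    rw [S.pull_gmor T M (hS'.trans hU') x, pull_sum_pushHom T M S.gmor S.gmor_disjoint,
      map_zero] at h2
    rw [← hd x]
    exact (ocolim_eq_zero_iff T M i n _).2 ⟨_, _, h2⟩
  · intro a
    obtain ⟨U, c, rfl⟩ := ocolim_exists_rep T M i n a
    obtain ⟨S, hS⟩ := exists_topOpen U
    let d := fun x : X.cdPt 0 => (T.pull (S.gmor x) M i n).hom ((T.pull (rle hS) M i n).hom c)
    let ξ : T.ptSum X 0 M i n := ∑ x, DirectSum.lof R (X.cdPt 0)
      (fun y : X.cdPt 0 => T.ptGp X y.1 M i n) x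
      (((T.ptι X x.1 i n (piece S.U.1 x.1 (S.mem_U x))).app M).hom (d x))
    refine ⟨ξ, ?_⟩
    rw [map_sum]
    refine Eq.trans (Finset.sum_congr rfl fun x _ => ?_) (Eq.trans (map_sum ((T.fjι X 0 i n S.U).app M).hom
      (fun x : X.cdPt 0 => (pushHom T M (S.gmor x) i n).hom (d x)) _).symm ?_)
    · rw [PreTheory.PushData.tot_lof, pushData_cpt_ι, S.pushPiece_eq T M x]
    · rw [← eq_sum_pushHom T M S.gmor S.gmor_disjoint S.gmor_cover]
      exact ι_rle_apply T M i n hS c

/-- Vanishing of the groups of `F_j` above the dimension plus `j` plus the bound on points. -/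
theorem fjGp_isZero_of_lt [IsReduced X.scheme] (c : ℕ)
    (hc : ∀ (y : X.scheme) (k l : ℤ), (WeilCoh.pdim X.scheme y : ℤ) + c < k →
      IsZero (T.ptGp X y M k l)) (j : ℕ) :
    ∀ i n : ℤ, (WeilCoh.dim X.scheme : ℤ) + j + c < i → IsZero (T.fjGp X j M i n) := by
  induction j with
  | zero =>
    intro i n hi
    refine (ocolim_isZero_iff T M i n).2 fun U a => ?_
    obtain ⟨S, hS⟩ := exists_topOpen U
    rw [← ι_rle_apply T M i n hS a]
    refine S.ι_eq_zero T M _ fun x => ?_
    have h1 := codim_add_pdim X x.1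
    have h2 := x.2
    exact @Subsingleton.elim _ (ModuleCat.subsingleton_of_isZero (hc x.1 i n (by omega))) _ _
  | succ j ih =>
    intro i n hi
    have hsub : Subsingleton (T.fjGp X (j + 1) M i n) := subsingleton_of_forall_eq 0 fun a => by
      obtain ⟨S, d, rfl⟩ := exists_stratum_sum_push T M (i := i - 2 * ((j + 1 : ℕ) : ℤ))
        (n := n - ((j + 1 : ℕ) : ℤ)) (by omega) (by omega) a
        (@Subsingleton.elim _ (ModuleCat.subsingleton_of_isZero (ih i n (by omega))) _ _)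
      refine S.ι_sum_pushPiece_eq_zero T M _ _ d fun x => ?_
      have h1 := codim_add_pdim X x.1.1
      have h2 := x.1.2
      exact @Subsingleton.elim _
        (ModuleCat.subsingleton_of_isZero (hc x.1.1 _ _ (by omega))) _ _
    exact ModuleCat.isZero_of_subsingleton _

theorem rle_resι {P : X.scheme.Opens → Prop} {U U' : Idx X P} (h : U'.1 ≤ U.1) :
    rle h ≫ X.resι U.1 U.2.2 = X.resι U'.1 U'.2.2 :=
  Hom.ext (X.scheme.homOfLE_ι h)

theorem toFj_fjRes {j k : ℕ} (h : j ≤ k) {i n : ℤ} (a : T.gp X M i n) :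
    ((T.fjRes X h i n).app M).hom (((T.toFj X k i n).app M).hom a) =
      ((T.toFj X j i n).app M).hom a := by
  rw [toFj_apply, toFj_apply, ι_fjRes]

theorem toFj_bijective_of_dim_le {k : ℕ} (hk : WeilCoh.dim X.scheme ≤ k) (i n : ℤ) :
    Function.Bijective ((T.toFj X k i n).app M).hom := by
  have htop : ∀ U : Idx X (ContainsFj X k), U = fjIdx ⊤ (containsFj_top X k) := fun U =>
    Subtype.ext (top_le_iff.1 fun y _ => U.2.1 y (by unfold WeilCoh.codim; omega))
  have := isIso_of_surjective X.resTop fun x => ⟨⟨x, trivial⟩, rfl⟩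
  have hbij := pull_bijective T X.resTop M i n
  constructor
  · refine (injective_iff_map_eq_zero _).2 fun a ha => ?_
    rw [toFj_apply] at ha
    obtain ⟨U', hU', h0⟩ := (ocolim_eq_zero_iff T M i n _).1 ha
    obtain rfl := htop U'
    rw [show rle hU' = 𝟙 _ from Hom.ext (Scheme.homOfLE_rfl _ _), pull_id] at h0
    exact hbij.1 (h0.trans (map_zero _).symm)
  · intro a
    obtain ⟨U, b, rfl⟩ := ocolim_exists_rep T M i n a
    obtain rfl := htop U
    obtain ⟨b', rfl⟩ := hbij.2 b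
    exact ⟨b', toFj_apply T M (i := i) (n := n) b'⟩

end

variable {R : Type u} [CommRing R] {A : Coefs R} (T : TheoryOn V R A) (M : A.Cat)

theorem toFj_bijective_of_le_two_mul (X : Obj V) {j : ℕ} {i : ℤ} (hj : i ≤ 2 * (j : ℤ)) (n : ℤ) :
    Function.Bijective ((T.toFj X j i n).app M).hom := by
  have hstep : ∀ d, Function.Bijective ((T.toFj X (j + d) i n).app M).hom →
      Function.Bijective ((T.toFj X j i n).app M).hom := by
    intro d
    induction d with
    | zero => exact id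
    | succ d ih =>
      intro h
      refine ih ?_
      have h1 : ⇑((T.toFj X (j + d) i n).app M).hom =
          ⇑((T.fjRes X (Nat.le_succ (j + d)) i n).app M).hom ∘
            ⇑((T.toFj X (j + d + 1) i n).app M).hom :=
        funext fun a => (toFj_fjRes T.toPreTheory M (Nat.le_succ (j + d)) a).symm
      rw [h1]
      exact (fjRes_bijective_of_isZero T.toPreTheory M i n
        (fun x _ => T.pt_vanish X x M _ _ (by omega))
        (fun x _ => T.pt_vanish X x M _ _ (by omega))).comp h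
  exact hstep (WeilCoh.dim X.scheme)
    (toFj_bijective_of_dim_le T.toPreTheory M (by omega) i n)

theorem pull_injective_of_le_two_mul {W Y : Obj V} (g : W ⟶ Y) {j : ℕ} {i : ℤ}
    (hj : i ≤ 2 * (j : ℤ)) (hg : ContainsFj Y j g.hom.opensRange) (n : ℤ) :
    Function.Injective (T.pull g M i n).hom := by
  refine (injective_iff_map_eq_zero _).2 fun a ha => ?_
  let O := fjIdx g.hom.opensRange hg
  let l := liftHom g O.1 (subset_of_eq rfl) O.2.2
  have hl : IsIso l := isIso_of_surjective l fun y => by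
    obtain ⟨w, hw⟩ := y.2
    refine ⟨w, O.1.ι.isOpenEmbedding.injective ?_⟩
    exact (congr($(IsOpenImmersion.lift_fac O.1.ι g.hom _) w)).trans hw
  have h0 : (T.pull (Y.resι O.1 O.2.2) M i n).hom a = 0 := by
    refine (pull_bijective T.toPreTheory l M i n).1 ?_
    rw [pull_pull, liftHom_fac, map_zero]
    exact ha
  refine (toFj_bijective_of_le_two_mul T M Y hj n).1 ?_
  rw [map_zero, toFj_apply]
  refine (ocolim_eq_zero_iff T.toPreTheory M i n _).2 ⟨O, le_top, ?_⟩
  rw [pull_pull, ← h0]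
  exact congrArg (fun f => (T.pull f M i n).hom a)
    (rle_resι (X := Y) (U := fjIdx ⊤ (containsFj_top Y j)) (U' := O) le_top)

theorem pull_bijective_of_le_two_mul {W Y : Obj V} (g : W ⟶ Y) {j : ℕ} {i : ℤ}
    (hj : i ≤ 2 * (j : ℤ)) (hg : ContainsFj Y j g.hom.opensRange) (n : ℤ) :
    Function.Bijective (T.pull g M i n).hom := by
  refine ⟨pull_injective_of_le_two_mul T M g hj hg n, fun b => ?_⟩
  let O := fjIdx g.hom.opensRange hg
  let l := liftHom g O.1 (subset_of_eq rfl) O.2.2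
  have hl : IsIso l := isIso_of_surjective l fun y => by
    obtain ⟨w, hw⟩ := y.2
    refine ⟨w, O.1.ι.isOpenEmbedding.injective ?_⟩
    exact (congr($(IsOpenImmersion.lift_fac O.1.ι g.hom _) w)).trans hw
  obtain ⟨b', rfl⟩ := (pull_bijective T.toPreTheory l M i n).2 b
  obtain ⟨a, ha⟩ := (toFj_bijective_of_le_two_mul T M Y hj n).2
    (((T.fjι Y j i n O).app M).hom b')
  rw [toFj_apply] at ha
  obtain ⟨U, h1, h2, e⟩ := (ocolim_eq_iff T.toPreTheory M i n _ _).1 ha
  refine ⟨a, ?_⟩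
  rw [← liftHom_fac g O.1 (subset_of_eq rfl) O.2.2, ← pull_pull]
  congr 1
  refine pull_injective_of_le_two_mul T M (rle h2) hj (fun y hy => ?_) n ?_
  · have hy' : WeilCoh.codim Y.scheme (O.1.ι y) ≤ j := by
      rw [show O.1.ι y = (Y.resι O.1 O.2.2).hom y from rfl, codim_hom]
      exact hy
    exact ⟨⟨O.1.ι y, U.2.1 _ hy'⟩,
      O.1.ι.isOpenEmbedding.injective (congr($(Y.scheme.homOfLE_ι h2) ⟨O.1.ι y, U.2.1 _ hy'⟩))⟩
  · refine Eq.trans ?_ e
    rw [pull_pull, pull_pull]
    exact congrArg (fun f => (T.pull f M i n).hom a) ((rle_resι h2).trans (rle_resι h1).symm)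

end Groth.Agent.Lib.BMTheory
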