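import Groth.Agent.Lib.BMTheory.Colim

/-!
First consequences of the Gysin sequences: exactness on elements, the retraction of push-forward along
clopen pieces, and the decomposition of the groups of a disjoint union.
-/

set_option autoImplicit false
set_option linter.unusedSectionVars false

universe u

open AlgebraicGeometry CategoryTheory CategoryTheory.Limits Opposite TopologicalSpace Topology

namespace Groth.Agent.Lib.BMTheory

open BMCoh

variable {V : ObjectProperty Scheme.{u}} [IsConstructible V]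
variable {R : Type u} [CommRing R] {A : Coefs R} (T : PreTheory V R A) (M : A.Cat)

section Exact

variable {X : Obj V} (D : Decomp X)

theorem res_eq_zero_iff {i n i' n' : ℤ} (hi : i' = i + 1 - 2 * D.codim) (hn : n' = n - D.codim)
    (a : T.gp D.U M i n) :
    (T.res D M i n i' n' hi hn).hom a = 0 ↔ ∃ b, (T.pull D.j M i n).hom b = a :=
  T.exact_pull_res D M i n i' n' hi hn a

theorem push_res {i n i' n' : ℤ} (hi : i' = i + 1 - 2 * D.codim) (hn : n' = n - D.codim)
    (hi' : i + 1 = i' + 2 * relCodim D.Z.scheme X.scheme)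
    (hn' : n = n' + relCodim D.Z.scheme X.scheme) (a : T.gp D.U M i n) :
    (T.push D.i M i' n' (i + 1) n hi' hn').hom ((T.res D M i n i' n' hi hn).hom a) = 0 :=
  (T.exact_res_push D M i n i' n' hi hn hi' hn').apply_apply_eq_zero a

theorem exists_res_eq {i n i' n' : ℤ} (hi : i' = i + 1 - 2 * D.codim) (hn : n' = n - D.codim)
    (hi' : i + 1 = i' + 2 * relCodim D.Z.scheme X.scheme)
    (hn' : n = n' + relCodim D.Z.scheme X.scheme) {r : T.gp D.Z M i' n'}
    (h : (T.push D.i M i' n' (i + 1) n hi' hn').hom r = 0) :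
    ∃ a, (T.res D M i n i' n' hi hn).hom a = r :=
  (T.exact_res_push D M i n i' n' hi hn hi' hn' r).1 h

theorem res_pull_j {i n i' n' : ℤ} (hi : i' = i + 1 - 2 * D.codim) (hn : n' = n - D.codim)
    (b : T.gp X M i n) :
    (T.res D M i n i' n' hi hn).hom ((T.pull D.j M i n).hom b) = 0 :=
  (res_eq_zero_iff T M D hi hn _).2 ⟨b, rfl⟩

theorem pull_eq_zero_iff {p n i' n' : ℤ} (hi' : p = i' + 2 * relCodim D.Z.scheme X.scheme)
    (hn' : n = n' + relCodim D.Z.scheme X.scheme) (a : T.gp X M p n) :
    (T.pull D.j M p n).hom a = 0 ↔ ∃ b, (T.push D.i M i' n' p n hi' hn').hom b = a := by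
  obtain ⟨k, rfl⟩ : ∃ k, p = k + 1 := ⟨p - 1, by ring⟩
  exact T.exact_push_pull D M k n i' n' hi' hn' a

theorem pull_push_j {p n i' n' : ℤ} (hi' : p = i' + 2 * relCodim D.Z.scheme X.scheme)
    (hn' : n = n' + relCodim D.Z.scheme X.scheme) (b : T.gp D.Z M i' n') :
    (T.pull D.j M p n).hom ((T.push D.i M i' n' p n hi' hn').hom b) = 0 :=
  (pull_eq_zero_iff T M D hi' hn' _).2 ⟨b, rfl⟩

/-- An object without points has zero groups. -/
theorem gp_eq_zero_of_isEmpty (E : Obj V) [IsEmpty ↥E.scheme] (i n : ℤ) (a : T.gp E M i n) :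
    a = 0 := by
  let D : Decomp E := ⟨E, E, 𝟙 E.scheme, inferInstance, 𝟙 E, Subsingleton.elim _ _⟩
  have hr : relCodim E.scheme E.scheme = 0 := sub_self _
  have h := pull_push_j T M D (p := i) (n := n) (i' := i) (n' := n)
    (show i = i + 2 * relCodim E.scheme E.scheme by rw [hr]; ring)
    (show n = n + relCodim E.scheme E.scheme by rw [hr]; ring) a
  have h1 : ∀ (e : i = i + 2 * relCodim E.scheme E.scheme) (e' : n = n + relCodim E.scheme E.scheme),
      T.push (𝟙 E.scheme) M i n i n e e' = 𝟙 _ := T.push_id E M i n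
  change (T.pull (𝟙 E) M i n).hom ((T.push (𝟙 E.scheme) M i n i n _ _).hom a) = 0 at h
  rw [h1, pull_id] at h
  exact h

end Exact

theorem push_congr {X Y : Obj V} {f f' : X.scheme ⟶ Y.scheme} [IsProper f] [IsProper f']
    (h : f = f') {i n i' n' : ℤ} (hi : i' = i + 2 * relCodim X.scheme Y.scheme)
    (hn : n' = n + relCodim X.scheme Y.scheme) :
    T.push f M i n i' n' hi hn = T.push f' M i n i' n' hi hn := by
  subst h; rfl

theorem relCodim_hom {X Y : Obj V} (w : X ⟶ Y) : relCodim X.scheme Y.scheme = 0 := by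
  unfold relCodim; rw [w.dim_eq, sub_self]

theorem relCodim_comp {X Y Z : Scheme.{u}} :
    relCodim X Z = relCodim X Y + relCodim Y Z := by
  unfold relCodim; ring

theorem hi₀ {X Y : Obj V} (w : X ⟶ Y) (i : ℤ) : i = i + 2 * relCodim X.scheme Y.scheme := by
  rw [relCodim_hom w]; ring

theorem hn₀ {X Y : Obj V} (w : X ⟶ Y) (n : ℤ) : n = n + relCodim X.scheme Y.scheme := by
  rw [relCodim_hom w]; ring

/-- Push-forward along a morphism of objects with closed image. -/
abbrev pushHom {X Y : Obj V} (w : X ⟶ Y) [IsClosedImmersion w.hom] (i n : ℤ) :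
    T.gp X M i n ⟶ T.gp Y M i n := T.push w.hom M i n i n (hi₀ w i) (hn₀ w n)

theorem pull_pushHom_self {W Z : Obj V} (w : W ⟶ Z) [IsClosedImmersion w.hom] {i n : ℤ}
    (b : T.gp W M i n) : (T.pull w M i n).hom ((pushHom T M w i n).hom b) = b := by
  have h := T.push_pull w.hom (𝟙 W.scheme) w (𝟙 W) (IsKernelPair.id_of_mono w.hom) M i n i n
    (hi₀ w i) (hn₀ w n) (hi₀ (𝟙 W) i) (hn₀ (𝟙 W) n)
  rw [T.push_id] at h
  change pushHom T M w i n ≫ T.pull w M i n = T.pull (𝟙 W) M i n ≫ 𝟙 _ at h
  rw [pull_id, Category.comp_id] at h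
  exact ConcreteCategory.congr_hom h b

/-- A morphism of objects into an open of the target containing its image. -/
noncomputable def liftHom {W Z : Obj V} (v : W ⟶ Z) (O : Z.scheme.Opens)
    (h : Set.range v.hom ⊆ O) (hd : WeilCoh.dim (O : Scheme.{u}) = WeilCoh.dim Z.scheme) :
    W ⟶ Z.res O :=
  ⟨IsOpenImmersion.lift O.ι v.hom (by rwa [Scheme.Opens.range_ι]),
    (by
      have : IsOpenImmersion (IsOpenImmersion.lift O.ι v.hom (by rwa [Scheme.Opens.range_ι]) ≫ O.ι) := by
        rw [IsOpenImmersion.lift_fac]; infer_instance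
      exact IsOpenImmersion.of_comp _ O.ι),
    v.dim_eq.trans hd.symm⟩

theorem liftHom_fac {W Z : Obj V} (v : W ⟶ Z) (O : Z.scheme.Opens) (h : Set.range v.hom ⊆ O)
    (hd : WeilCoh.dim (O : Scheme.{u}) = WeilCoh.dim Z.scheme) :
    liftHom v O h hd ≫ Z.resι O hd = v :=
  Hom.ext (IsOpenImmersion.lift_fac _ _ _)

theorem dim_open_eq_of_hom {W Z : Obj V} (v : W ⟶ Z) (O : Z.scheme.Opens)
    (h : Set.range v.hom ⊆ O) : WeilCoh.dim (O : Scheme.{u}) = WeilCoh.dim Z.scheme := by
  refine le_antisymm (dim_open_le O) ?_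
  rw [← v.dim_eq]
  refine dim_le_of_forall W fun p => ?_
  rw [← pdim_of_isOpenImmersion v.hom p]
  exact le_dim_open O (h ⟨p, rfl⟩)

/-- The open complement of the image of a closed immersion. -/
def complOpens {W Z : Scheme.{u}} (f : W ⟶ Z) [IsClosedImmersion f] : Z.Opens :=
  ⟨(Set.range f)ᶜ, f.isClosedEmbedding.isClosed_range.isOpen_compl⟩

/-- The decomposition given by a closed immersion whose complement has full dimension. -/
@[reducible] noncomputable def mkDecomp {W Z : Obj V} (f : W.scheme ⟶ Z.scheme) [IsClosedImmersion f]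
    (hd : WeilCoh.dim (complOpens f : Scheme.{u}) = WeilCoh.dim Z.scheme) : Decomp Z where
  Z := W
  U := Z.res (complOpens f)
  i := f
  closedImm := inferInstance
  j := Z.resι (complOpens f) hd
  range_eq := Scheme.Opens.range_ι _

theorem pull_pushHom_disjoint {W W' Z : Obj V} (w : W ⟶ Z) [IsClosedImmersion w.hom] (v : W' ⟶ Z)
    (h : Disjoint (Set.range v.hom) (Set.range w.hom)) {i n : ℤ} (b : T.gp W M i n) :
    (T.pull v M i n).hom ((pushHom T M w i n).hom b) = 0 := by
  have hs : Set.range v.hom ⊆ (complOpens w.hom : Set Z.scheme) :=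
    Set.subset_compl_iff_disjoint_right.2 h
  have hd := dim_open_eq_of_hom v _ hs
  have h0 : (T.pull (Z.resι (complOpens w.hom) hd) M i n).hom ((pushHom T M w i n).hom b) = 0 :=
    pull_push_j T M (mkDecomp w.hom hd) (hi₀ w i) (hn₀ w n) b
  rw [← liftHom_fac v _ hs hd, ← pull_pull, h0, map_zero]

theorem isIso_of_surjective {W Z : Obj V} (w : W ⟶ Z) (h : Function.Surjective w.hom) :
    IsIso w := by
  have : IsIso w.hom := isIso_of_isOpenImmersion_of_opensRange_eq_top _
    (TopologicalSpace.Opens.ext (Set.range_eq_univ.2 h))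
  exact ⟨⟨inv w.hom, inferInstance, w.dim_eq.symm⟩,
    Hom.ext (IsIso.hom_inv_id w.hom), Hom.ext (IsIso.inv_hom_id w.hom)⟩

theorem family_injective_aux : ∀ (m : ℕ) (Z : Obj V) (W : Fin m → Obj V) (w : ∀ k, W k ⟶ Z)
    (_ : ∀ k, IsClosedImmersion (w k).hom)
    (_ : Pairwise fun k l => Disjoint (Set.range (w k).hom) (Set.range (w l).hom))
    (_ : ∀ z : Z.scheme, ∃ k, z ∈ Set.range (w k).hom) (i n : ℤ) (a : T.gp Z M i n),
    (∀ k, (T.pull (w k) M i n).hom a = 0) → a = 0 := by
  intro m
  induction m with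
  | zero =>
    intro Z W w _ _ hc i n a _
    have : IsEmpty ↥Z.scheme := ⟨fun z => (hc z).choose.elim0⟩
    exact gp_eq_zero_of_isEmpty T M Z i n a
  | succ m ih =>
    intro Z W w hcl hdis hcov i n a ha
    cases m with
    | zero =>
      have := isIso_of_surjective (w 0) fun z => by
        obtain ⟨k, hk⟩ := hcov z
        rwa [Fin.eq_zero k] at hk
      exact (pull_bijective T (w 0) M i n).1 ((ha 0).trans (map_zero _).symm)
    | succ m =>
      have := hcl 0
      have hs : ∀ k : Fin (m + 1),
          Set.range (w k.succ).hom ⊆ (complOpens (w 0).hom : Set Z.scheme) := fun k =>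
        Set.subset_compl_iff_disjoint_right.2 (hdis (Fin.succ_ne_zero k))
      have hd := dim_open_eq_of_hom (w (Fin.succ 0)) _ (hs 0)
      let w' : ∀ k : Fin (m + 1), W k.succ ⟶ Z.res (complOpens (w 0).hom) := fun k =>
        liftHom (w k.succ) _ (hs k) hd
      have hfac : ∀ k, w' k ≫ Z.resι _ hd = w k.succ := fun k => liftHom_fac _ _ _ _
      have hrange : ∀ k, Set.range (w' k).hom =
          (complOpens (w 0).hom).ι ⁻¹' Set.range (w k.succ).hom := by
        intro k
        rw [← hfac k, comp_hom, Scheme.Hom.comp_base, TopCat.coe_comp, Set.range_comp]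
        exact (Set.preimage_image_eq _
          (complOpens (w 0).hom).ι.isOpenEmbedding.injective).symm
      have hz : (T.pull (Z.resι _ hd) M i n).hom a = 0 := by
        refine ih (Z.res (complOpens (w 0).hom)) _ w' (fun k => ?_) (fun k l hkl => ?_)
          (fun z => ?_) i n _ (fun k => ?_)
        · have := hcl k.succ
          have h1 : IsClosed (Set.range (w' k).hom) := by
            rw [hrange k]
            exact (w k.succ).hom.isClosedEmbedding.isClosed_range.preimage
              (complOpens (w 0).hom).ι.continuous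
          exact IsClosedImmersion.of_isPreimmersion _ h1
        · change Disjoint _ _
          rw [hrange, hrange]
          exact (hdis ((Fin.succ_injective _).ne hkl)).preimage _
        · obtain ⟨k, hk⟩ := hcov ((complOpens (w 0).hom).ι z)
          obtain rfl | ⟨l, rfl⟩ := Fin.eq_zero_or_eq_succ k
          · exact absurd hk z.2
          · exact ⟨l, by rw [hrange]; exact hk⟩
        · rw [pull_pull, hfac]; exact ha _
      obtain ⟨b, hb⟩ := (pull_eq_zero_iff T M (mkDecomp (w 0).hom hd) (hi₀ (w 0) i)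
        (hn₀ (w 0) n) a).1 hz
      have h1 : (T.pull (w 0) M i n).hom ((pushHom T M (w 0) i n).hom b) = 0 := by
        rw [show (pushHom T M (w 0) i n).hom b = a from hb]; exact ha 0
      rw [pull_pushHom_self] at h1
      exact hb.symm.trans (by rw [h1]; exact map_zero _)

section Family

variable {ι : Type*} [Fintype ι] {Z : Obj V} {W : ι → Obj V} (w : ∀ k, W k ⟶ Z)
  [∀ k, IsClosedImmersion (w k).hom]
  (hdis : Pairwise fun k l => Disjoint (Set.range (w k).hom) (Set.range (w l).hom))
  (hcov : ∀ z : Z.scheme, ∃ k, z ∈ Set.range (w k).hom) {i n : ℤ}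

include hdis in
theorem pull_sum_pushHom (d : ∀ k, T.gp (W k) M i n) (l : ι) :
    (T.pull (w l) M i n).hom (∑ k, (pushHom T M (w k) i n).hom (d k)) = d l := by
  rw [map_sum, Finset.sum_eq_single l, pull_pushHom_self]
  · exact fun k _ hk => pull_pushHom_disjoint T M (w k) (w l) (hdis hk.symm) _
  · simp

include hdis hcov in
theorem eq_zero_of_pull_family (a : T.gp Z M i n) (ha : ∀ k, (T.pull (w k) M i n).hom a = 0) :
    a = 0 := by
  let e := (Fintype.equivFin ι).symm
  exact family_injective_aux T M (Fintype.card ι) Z (fun k => W (e k)) (fun k => w (e k))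
    (fun k => inferInstance) (fun k l hkl => hdis (e.injective.ne hkl))
    (fun z => ⟨e.symm (hcov z).choose, by rw [e.apply_symm_apply]; exact (hcov z).choose_spec⟩)
    i n a fun k => ha (e k)

include hdis hcov in
theorem eq_sum_pushHom (a : T.gp Z M i n) :
    a = ∑ k, (pushHom T M (w k) i n).hom ((T.pull (w k) M i n).hom a) := by
  refine sub_eq_zero.1 (eq_zero_of_pull_family T M w hdis hcov _ fun l => ?_)
  rw [map_sub, pull_sum_pushHom T M w hdis, sub_self]

end Family

/-- The groups of a disjoint union of two pieces of full dimension. -/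
theorem pull_prod_bijective {X Y W : Obj V} (iX : X ⟶ W) (iY : Y ⟶ W)
    (h : Set.range iX.hom = (Set.range iY.hom)ᶜ) (i n : ℤ) :
    Function.Bijective
      (fun a : T.gp W M i n => ((T.pull iX M i n).hom a, (T.pull iY M i n).hom a)) := by
  have hcX : IsClosedImmersion iX.hom := IsClosedImmersion.of_isPreimmersion _
    (h ▸ iY.hom.isOpenEmbedding.isOpen_range.isClosed_compl)
  have hcY : IsClosedImmersion iY.hom := IsClosedImmersion.of_isPreimmersion _
    ((compl_eq_comm.1 h.symm) ▸ iX.hom.isOpenEmbedding.isOpen_range.isClosed_compl)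
  have hd : Disjoint (Set.range iX.hom) (Set.range iY.hom) := h ▸ disjoint_compl_left
  let D : Decomp W := ⟨X, Y, iX.hom, hcX, iY, by rw [h, compl_compl]⟩
  constructor
  · intro a b hab
    obtain ⟨h1, h2⟩ := Prod.ext_iff.1 hab
    obtain ⟨c, hc⟩ := (pull_eq_zero_iff T M D (hi₀ iX i) (hn₀ iX n) (a - b)).1
      (by rw [map_sub]; exact sub_eq_zero.2 h2)
    have h3 : (T.pull iX M i n).hom ((pushHom T M iX i n).hom c) = 0 := by
      rw [show (pushHom T M iX i n).hom c = a - b from hc, map_sub]
      exact sub_eq_zero.2 h1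
    rw [pull_pushHom_self] at h3
    rw [← sub_eq_zero, ← hc, h3, map_zero]
  · rintro ⟨x, y⟩
    refine ⟨(pushHom T M iX i n).hom x + (pushHom T M iY i n).hom y, Prod.ext ?_ ?_⟩
    · simp only [map_add, pull_pushHom_self]
      rw [pull_pushHom_disjoint T M iY iX hd, add_zero]
    · simp only [map_add, pull_pushHom_self]
      rw [pull_pushHom_disjoint T M iX iY hd.symm, zero_add]

end Groth.Agent.Lib.BMTheory
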