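import Groth.Agent.Lib.BMTheory.Gysin
import Groth.Agent.H75.RedSub
import Mathlib.AlgebraicGeometry.Restrict

/-!
Pieces of closures of points inside opens, and the geometry used to build strata.
-/

set_option autoImplicit false
set_option linter.unusedSectionVars false

universe u

open AlgebraicGeometry CategoryTheory CategoryTheory.Limits Opposite TopologicalSpace Topology

namespace Groth.Agent.Lib.BMTheory

open BMCoh

variable {V : ObjectProperty Scheme.{u}} [IsConstructible V] {X : Obj V}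

instance isReduced_ptSub (x : X.scheme) : IsReduced (X.ptSub x).scheme :=
  H75.RedSub.isReduced_vanishingIdeal _

instance isReduced_res [IsReduced X.scheme] (U : X.scheme.Opens) : IsReduced (X.res U).scheme :=
  isReduced_of_isOpenImmersion U.ι

theorem noetherianSpace (X : Obj V) : NoetherianSpace ↥X.scheme := by
  have := IsConstructible.isNoetherian X.mem
  infer_instance

/-- The part of the closure of `x` inside an open containing `x`. -/
noncomputable abbrev piece (O : X.scheme.Opens) (x : X.scheme) (hx : x ∈ O) : ptIdx X x :=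
  ptOfNonempty X x ((X.ptSubι x) ⁻¹ᵁ O) (by
    obtain ⟨p, hp, -⟩ := exists_genPt X x
    exact ⟨p, show X.ptSubι x p ∈ O by rwa [hp]⟩)

/-- The closed immersion of the piece of the closure of `x` into the open. -/
noncomputable def pieceMor (O : X.scheme.Opens) (x : X.scheme) (hx : x ∈ O) :
    ((X.ptSub x).res (piece O x hx).1).scheme ⟶ (X.res O).scheme :=
  X.ptSubι x ∣_ O

instance (O : X.scheme.Opens) (x : X.scheme) (hx : x ∈ O) :
    IsClosedImmersion (pieceMor O x hx) :=
  MorphismProperty.of_isPullback (isPullback_morphismRestrict _ O).flip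
    (inferInstance : IsClosedImmersion (X.ptSubι x))

theorem pieceMor_ι (O : X.scheme.Opens) (x : X.scheme) (hx : x ∈ O) :
    pieceMor O x hx ≫ O.ι = (piece O x hx).1.ι ≫ X.ptSubι x :=
  morphismRestrict_ι _ _

theorem image_piece (O : X.scheme.Opens) (x : X.scheme) (hx : x ∈ O) :
    Set.range ((piece O x hx).1.ι ≫ X.ptSubι x) = closure ({x} : Set X.scheme) ∩ O := by
  rw [Scheme.Hom.comp_base, TopCat.coe_comp, Set.range_comp, Scheme.Opens.range_ι, ← range_ptSubι]
  change X.ptSubι x '' (X.ptSubι x ⁻¹' O) = _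
  rw [Set.image_preimage_eq_range_inter]

theorem piece_mono {O O' : X.scheme.Opens} (h : O' ≤ O) (x : X.scheme) (hx : x ∈ O') :
    (piece O' x hx).1 ≤ (piece O x (h hx)).1 :=
  fun _ hy => h hy

theorem relCodim_ptIdx {P : X.scheme.Opens → Prop} (O : Idx X P) {x : X.scheme}
    (W : ptIdx X x) :
    relCodim ((X.ptSub x).res W.1).scheme (X.res O.1).scheme = WeilCoh.codim X.scheme x := by
  have h1 := W.2.2
  have h2 := dim_ptSub X x
  have h3 := O.2.2
  have h4 := codim_add_pdim X x
  simp only [relCodim]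
  omega

/-- Restricting pieces is a cartesian square. -/
theorem isPullback_pieceMor {P : X.scheme.Opens → Prop} {O O' : Idx X P} (h : O'.1 ≤ O.1)
    (x : X.scheme) (hx : x ∈ O'.1) :
    IsPullback (rle (piece_mono h x hx)).hom (pieceMor O'.1 x hx) (pieceMor O.1 x (h hx))
      (rle h).hom := by
  refine IsPullback.of_right (h₁₂ := (piece O.1 x (h hx)).1.ι) (h₂₂ := O.1.ι)
    (v₁₃ := X.ptSubι x) ?_ ?_ (isPullback_morphismRestrict (X.ptSubι x) O.1).flip
  · change IsPullback ((X.ptSub x).scheme.homOfLE (piece_mono h x hx) ≫ (piece O.1 x (h hx)).1.ι)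
      (pieceMor O'.1 x hx) (X.ptSubι x) (X.scheme.homOfLE h ≫ O.1.ι)
    rw [Scheme.homOfLE_ι, Scheme.homOfLE_ι]
    exact (isPullback_morphismRestrict (X.ptSubι x) O'.1).flip
  · rw [← cancel_mono O.1.ι, Category.assoc, Category.assoc, pieceMor_ι]
    change (X.ptSub x).scheme.homOfLE (piece_mono h x hx) ≫ (piece O.1 x (h hx)).1.ι ≫ X.ptSubι x =
      pieceMor O'.1 x hx ≫ X.scheme.homOfLE h ≫ O.1.ι
    rw [Scheme.homOfLE_ι, Scheme.homOfLE_ι_assoc, pieceMor_ι]

/-- A reduced immersed object whose image is open in that of another one maps to it. -/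
theorem exists_openHom {A Z : Obj V} {S : Scheme.{u}} (a : A.scheme ⟶ S) (z : Z.scheme ⟶ S)
    [IsImmersion a] [IsImmersion z] [IsReduced A.scheme] [IsReduced Z.scheme] (O : S.Opens)
    (hr : Set.range a = Set.range z ∩ O)
    (hd : WeilCoh.dim A.scheme = WeilCoh.dim Z.scheme) : ∃ g : A ⟶ Z, g.hom ≫ z = a := by
  let O' : Z.scheme.Opens := z ⁻¹ᵁ O
  have : IsReduced (O' : Scheme.{u}) := isReduced_of_isOpenImmersion O'.ι
  have h : Set.range a = Set.range (O'.ι ≫ z) := by
    rw [hr, Scheme.Hom.comp_base, TopCat.coe_comp, Set.range_comp, Scheme.Opens.range_ι]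
    change _ = z '' (z ⁻¹' O)
    rw [Set.image_preimage_eq_range_inter]
  obtain ⟨e, he⟩ := H75.RedSub.exists_iso a (O'.ι ≫ z) h
  exact ⟨⟨e.hom ≫ O'.ι, inferInstance, hd⟩, (Category.assoc _ _ _).trans he⟩

/-- The open complement of the closures of finitely many points. -/
def avoid (s : Set X.scheme) (hs : s.Finite) : X.scheme.Opens :=
  ⟨(⋃ x ∈ s, closure ({x} : Set X.scheme))ᶜ,
    (hs.isClosed_biUnion fun _ _ => isClosed_closure).isOpen_compl⟩

theorem mem_avoid {s : Set X.scheme} {hs : s.Finite} {y : X.scheme} :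
    y ∈ avoid s hs ↔ ∀ x ∈ s, ¬ x ⤳ y := by
  change y ∈ (⋃ x ∈ s, closure ({x} : Set X.scheme))ᶜ ↔ _
  simp only [Set.mem_compl_iff, Set.mem_iUnion, exists_prop, not_exists, not_and,
    specializes_iff_mem_closure]

theorem containsFj_avoid {j : ℕ} {s : Set X.scheme} {hs : s.Finite}
    (h : ∀ x ∈ s, j < WeilCoh.codim X.scheme x) : ContainsFj X j (avoid s hs) := by
  intro y hy
  rw [mem_avoid]
  intro x hx hxy
  have := h x hx
  have := codim_le_of_specializes X hxy
  omega

/-- A closed subset is the union of the closures of finitely many of its points. -/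
theorem exists_finite_generic {C : Set X.scheme} (hC : IsClosed C) :
    ∃ G : Set X.scheme, G.Finite ∧ G ⊆ C ∧ ∀ y ∈ C, ∃ g ∈ G, g ⤳ y := by
  have := noetherianSpace X
  obtain ⟨S, hSf, hSc, hSi, hS⟩ := NoetherianSpace.exists_finite_set_isClosed_irreducible hC
  have hg : ∀ t : S, ∃ g : X.scheme, closure ({g} : Set X.scheme) = t.1 := fun t =>
    QuasiSober.sober (hSi _ t.2) (hSc _ t.2)
  choose g hg using hg
  have : Finite S := hSf.to_subtype
  refine ⟨Set.range g, Set.finite_range g, ?_, fun y hy => ?_⟩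
  · rintro _ ⟨t, rfl⟩
    rw [hS]
    exact ⟨t.1, t.2, hg t ▸ subset_closure rfl⟩
  · rw [hS] at hy
    obtain ⟨t, ht, hyt⟩ := hy
    exact ⟨g ⟨t, ht⟩, ⟨_, rfl⟩, specializes_iff_mem_closure.2 (by rw [hg]; exact hyt)⟩

theorem eq_of_specializes_of_codim {x y : X.scheme} (h : x ⤳ y)
    (hc : WeilCoh.codim X.scheme y ≤ WeilCoh.codim X.scheme x) : x = y := by
  by_contra hne
  exact absurd (codim_lt_of_specializes X h hne) (not_lt.2 hc)

/-- The points of codimension `j + 1` outside an open containing `F_j` are finitely many. -/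
theorem finite_outside {j : ℕ} {U : X.scheme.Opens} (hU : ContainsFj X j U) :
    {x : X.cdPt (j + 1) | x.1 ∉ U}.Finite := by
  obtain ⟨G, hGf, hGC, hG⟩ := exists_finite_generic (X := X) (U.isOpen.isClosed_compl)
  refine (hGf.preimage (Subtype.val_injective.injOn)).subset fun x hx => ?_
  obtain ⟨g, hg, hgx⟩ := hG x.1 hx
  have h1 : j < WeilCoh.codim X.scheme g := by
    by_contra h; exact hGC hg (hU g (not_lt.1 h))
  have := eq_of_specializes_of_codim hgx (by rw [x.2]; omega)
  exact (show x.1 ∈ G from this ▸ hg)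

theorem containsFj_succ_of_forall_mem {j : ℕ} {U : X.scheme.Opens} (hU : ContainsFj X j U)
    (h : ∀ x : X.cdPt (j + 1), x.1 ∈ U) : ContainsFj X (j + 1) U := by
  intro y hy
  rcases Nat.lt_or_ge (WeilCoh.codim X.scheme y) (j + 1) with h1 | h1
  · exact hU y (Nat.lt_succ_iff.1 h1)
  · exact h ⟨y, le_antisymm hy h1⟩

/-- The open obtained by removing from the closure of `x` the complement of a nonempty open of it. -/
noncomputable def cutOpen (x : X.scheme) (W : ptIdx X x) : X.scheme.Opens :=
  ⟨(X.ptSubι x '' (W.1 : Set (X.ptSub x).scheme)ᶜ)ᶜ,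
    ((X.ptSubι x).isClosedEmbedding.isClosedMap _ W.1.isOpen.isClosed_compl).isOpen_compl⟩

theorem codim_lt_of_notMem_cutOpen {x : X.scheme} {W : ptIdx X x} {y : X.scheme}
    (hy : y ∉ cutOpen x W) : WeilCoh.codim X.scheme x < WeilCoh.codim X.scheme y := by
  obtain ⟨q, hq, rfl⟩ := Classical.not_not.1 hy
  obtain ⟨p, hp, hgen⟩ := exists_genPt X x
  refine codim_lt_of_specializes X ?_ ?_
  · exact (Inseparable.of_eq hp.symm).specializes.trans ((hgen q).map (X.ptSubι x).continuous)
  · intro h
    obtain rfl := (X.ptSubι x).isEmbedding.injective (hp.trans h)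
    exact hq (genPt_mem W.2.1 hgen)

theorem containsFj_cutOpen {j : ℕ} {x : X.scheme} (W : ptIdx X x)
    (h : j ≤ WeilCoh.codim X.scheme x) : ContainsFj X j (cutOpen x W) := by
  intro y hy
  by_contra hn
  have := codim_lt_of_notMem_cutOpen hn
  omega

theorem self_mem_cutOpen (x : X.scheme) (W : ptIdx X x) : x ∈ cutOpen x W :=
  containsFj_cutOpen W le_rfl x le_rfl

theorem piece_le_of_le_cutOpen {x : X.scheme} {W : ptIdx X x} {O : X.scheme.Opens}
    (h : O ≤ cutOpen x W) (hx : x ∈ O) : (piece O x hx).1 ≤ W.1 := by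
  intro q hq
  by_contra hn
  exact h hq ⟨q, hn, rfl⟩

/-- The points of `F_j` surviving all cuts along finitely many points of codimension at least `j`. -/
theorem exists_open_cuts {j : ℕ} {ι : Type*} [Finite ι] (x : ι → X.scheme)
    (hx : ∀ k, j ≤ WeilCoh.codim X.scheme (x k)) (W : ∀ k, ptIdx X (x k)) :
    ∃ O : Idx X (ContainsFj X j), ∀ k, O.1 ≤ cutOpen (x k) (W k) := by
  let B : X.scheme.Opens := ⟨⋂ k, (cutOpen (x k) (W k) : Set X.scheme),
    isOpen_iInter_of_finite fun k => (cutOpen (x k) (W k)).isOpen⟩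
  exact ⟨fjIdx B fun y hy => Set.mem_iInter.2 fun k => containsFj_cutOpen (W k) (hx k) y hy,
    fun k y hy => Set.mem_iInter.1 hy k⟩

end Groth.Agent.Lib.BMTheory
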