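import Groth.Agent.Lib.BMTheory.Piece

/-!
Push-forward from pieces of closures of points into opens.
-/

set_option autoImplicit false
set_option linter.unusedSectionVars false

universe u

open AlgebraicGeometry CategoryTheory CategoryTheory.Limits Opposite TopologicalSpace Topology

namespace Groth.Agent.Lib.BMTheory

open BMCoh

variable {V : ObjectProperty Scheme.{u}} [IsConstructible V]
variable {R : Type u} [CommRing R] {A : Coefs R} (T : PreTheory V R A) (M : A.Cat)
variable {X : Obj V}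

theorem rle_comp {P : X.scheme.Opens → Prop} {U U' U'' : Idx X P} (h : U'.1 ≤ U.1)
    (h' : U''.1 ≤ U'.1) : rle h' ≫ rle h = rle (h'.trans h) :=
  Hom.ext (Scheme.homOfLE_homOfLE X.scheme h' h)

theorem pull_rle_rle {P : X.scheme.Opens → Prop} {U U' U'' : Idx X P} (h : U'.1 ≤ U.1)
    (h' : U''.1 ≤ U'.1) {i n : ℤ} (a : T.gp (X.res U.1) M i n) :
    (T.pull (rle h') M i n).hom ((T.pull (rle h) M i n).hom a) =
      (T.pull (rle (h'.trans h)) M i n).hom a := by
  rw [pull_pull, rle_comp]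

/-- Push-forward from the piece of the closure of `x` in an open of full dimension. -/
noncomputable def pushPiece {P : X.scheme.Opens → Prop} (O : Idx X P) (x : X.scheme)
    (hx : x ∈ O.1) {k : ℕ} (hk : WeilCoh.codim X.scheme x = k) {i n p m : ℤ}
    (hp : p = i + 2 * (k : ℤ)) (hm : m = n + (k : ℤ)) :
    T.gp ((X.ptSub x).res (piece O.1 x hx).1) M i n ⟶ T.gp (X.res O.1) M p m :=
  T.push (pieceMor O.1 x hx) M i n p m (by rw [relCodim_ptIdx O, hk]; exact hp)
    (by rw [relCodim_ptIdx O, hk]; exact hm)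

/-- Base change of push-forward from pieces along a smaller open. -/
theorem pull_pushPiece {P : X.scheme.Opens → Prop} {O O' : Idx X P} (h : O'.1 ≤ O.1)
    (x : X.scheme) (hx : x ∈ O'.1) {k : ℕ} (hk : WeilCoh.codim X.scheme x = k) {i n p m : ℤ}
    (hp : p = i + 2 * (k : ℤ)) (hm : m = n + (k : ℤ))
    (d : T.gp ((X.ptSub x).res (piece O.1 x (h hx)).1) M i n) :
    (T.pull (rle h) M p m).hom ((pushPiece T M O x (h hx) hk hp hm).hom d) =
      (pushPiece T M O' x hx hk hp hm).hom
        ((T.pull (rle (piece_mono h x hx)) M i n).hom d) :=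
  ConcreteCategory.congr_hom
    (T.push_pull (pieceMor O.1 x (h hx)) (pieceMor O'.1 x hx) (rle h) (rle (piece_mono h x hx))
      (isPullback_pieceMor h x hx) M i n p m _ _ _ _) d

/-- Every class of a point is represented on the piece in a small open containing `F_k`. -/
theorem exists_piece_rep {k : ℕ} (x : X.cdPt k) {i n : ℤ} (ξ : T.ptGp X x.1 M i n) :
    ∃ (O : Idx X (ContainsFj X k)), ∀ (O' : Idx X (ContainsFj X k)), O'.1 ≤ O.1 →
      ∃ d : T.gp ((X.ptSub x.1).res (piece O'.1 x.1 (O'.2.1 x.1 x.2.le)).1) M i n,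
        ((T.ptι X x.1 i n (piece O'.1 x.1 (O'.2.1 x.1 x.2.le))).app M).hom d = ξ := by
  obtain ⟨W, b, hb⟩ := ocolim_exists_rep T M i n ξ
  refine ⟨fjIdx (cutOpen x.1 W) (containsFj_cutOpen W x.2.ge), fun O' h => ?_⟩
  have hle : (piece O'.1 x.1 (O'.2.1 x.1 x.2.le)).1 ≤ W.1 := piece_le_of_le_cutOpen h _
  exact ⟨(T.pull (rle hle) M i n).hom b, (ι_rle_apply T M i n hle b).trans hb⟩

/-- Push-forward data are computed by pushing forward from pieces. -/
theorem pushData_cpt_ι {k : ℕ} (P : T.PushData X k) (x : X.cdPt k) (O : Idx X (ContainsFj X k))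
    {i n p m : ℤ} (hp : p = i + 2 * (k : ℤ)) (hm : m = n + (k : ℤ))
    (d : T.gp ((X.ptSub x.1).res (piece O.1 x.1 (O.2.1 x.1 x.2.le)).1) M i n) :
    (P.cpt x M i n p m hp hm).hom
        (((T.ptι X x.1 i n (piece O.1 x.1 (O.2.1 x.1 x.2.le))).app M).hom d) =
      ((T.fjι X k p m O).app M).hom
        ((pushPiece T M O x.1 (O.2.1 x.1 x.2.le) x.2 hp hm).hom d) :=
  ConcreteCategory.congr_hom
    (P.cpt_spec x M i n p m hp hm O (piece O.1 x.1 (O.2.1 x.1 x.2.le))
      (pieceMor O.1 x.1 (O.2.1 x.1 x.2.le)) (pieceMor_ι _ _ _) _ _) d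

/-- The classes of a point pushed forward vanish on opens avoiding the point. -/
theorem pull_pushPiece_eq_zero {P : X.scheme.Opens → Prop} {Q : X.scheme.Opens → Prop}
    (O : Idx X P) (U : Idx X Q) (h : U.1 ≤ O.1) (x : X.scheme) (hx : x ∈ O.1) (hxU : x ∉ U.1)
    {k : ℕ} (hk : WeilCoh.codim X.scheme x = k) {i n p m : ℤ} (hp : p = i + 2 * (k : ℤ))
    (hm : m = n + (k : ℤ)) (d : T.gp ((X.ptSub x).res (piece O.1 x hx).1) M i n) :
    (T.pull (X.resLE h (U.2.2.trans O.2.2.symm)) M p m).hom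
      ((pushPiece T M O x hx hk hp hm).hom d) = 0 := by
  let f := pieceMor O.1 x hx
  let v : X.res U.1 ⟶ X.res O.1 := X.resLE h (U.2.2.trans O.2.2.symm)
  have hs : Set.range v.hom ⊆ (complOpens f : Set (X.res O.1).scheme) := by
    rintro _ ⟨y, rfl⟩ ⟨q, hq⟩
    have h1 : O.1.ι (f q) = U.1.ι y := by
      rw [hq]
      exact congr($(X.scheme.homOfLE_ι h) y)
    have h2 : U.1.ι y ∈ closure ({x} : Set X.scheme) ∩ O.1 := by
      rw [← image_piece O.1 x hx, ← h1, ← Scheme.Hom.comp_apply, pieceMor_ι]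
      exact ⟨q, rfl⟩
    exact hxU ((specializes_iff_mem_closure.2 h2.1).mem_open U.1.isOpen y.2)
  have hd := dim_open_eq_of_hom v (complOpens f) hs
  have h0 := pull_push_j T M (mkDecomp f hd) (p := p) (n := m) (i' := i) (n' := n)
    (by change p = i + 2 * relCodim ((X.ptSub x).res (piece O.1 x hx).1).scheme (X.res O.1).scheme
        rw [relCodim_ptIdx O, hk]; exact hp)
    (by change m = n + relCodim ((X.ptSub x).res (piece O.1 x hx).1).scheme (X.res O.1).scheme
        rw [relCodim_ptIdx O, hk]; exact hm) d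
  change (T.pull v M p m).hom ((T.push f M i n p m _ _).hom d) = 0
  rw [← liftHom_fac v _ hs hd, ← pull_pull]
  exact (congrArg _ h0).trans (map_zero _)

end Groth.Agent.Lib.BMTheory
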