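import Groth.Agent.Lib.BMTheory.PiecePush

/-!
Strata: an open `U ⊇ F_j` together with an open `O ⊇ F_(j+1)` containing it such that `O ∖ U` is the
disjoint union of the pieces of the closures of the points of codimension `j + 1` outside `U`.
-/

set_option autoImplicit false
set_option linter.unusedSectionVars false

universe u

open AlgebraicGeometry CategoryTheory CategoryTheory.Limits Opposite TopologicalSpace Topology

namespace Groth.Agent.Lib.BMTheory

open BMCoh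

variable {V : ObjectProperty Scheme.{u}} [IsConstructible V] {X : Obj V} {j : ℕ}

/-- An open `U ⊇ F_j` inside an open `O ⊇ F_(j+1)` whose difference is a disjoint union of pieces. -/
structure Stratum (X : Obj V) (j : ℕ) where
  /-- The smaller open. -/
  U : Idx X (ContainsFj X j)
  /-- The larger open. -/
  O : Idx X (ContainsFj X (j + 1))
  le : U.1 ≤ O.1
  cover : ∀ y ∈ O.1, y ∉ U.1 → ∃ x : X.cdPt (j + 1), x.1 ∉ U.1 ∧ x.1 ⤳ y
  disj : ∀ (x x' : X.cdPt (j + 1)) (y : X.scheme), y ∈ O.1 → x.1 ∉ U.1 → x'.1 ∉ U.1 →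
    x.1 ⤳ y → x'.1 ⤳ y → x = x'

theorem exists_stratum (U : Idx X (ContainsFj X j)) : ∃ S : Stratum X j, S.U = U := by
  have hsub : IsClosed ((U.1 : Set X.scheme)ᶜ) := U.1.isOpen.isClosed_compl
  obtain ⟨G, hGf, hGC, hG⟩ := exists_finite_generic (X := X) hsub
  let E : Set X.scheme := {g | g ∈ G ∧ WeilCoh.codim X.scheme g ≠ j + 1}
  have hE : E.Finite := hGf.subset fun _ h => h.1
  have hgt : ∀ y : X.scheme, y ∉ U.1 → j < WeilCoh.codim X.scheme y := fun y hy => by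
    by_contra h; exact hy (U.2.1 y (not_lt.1 h))
  let Sx : Set (X.cdPt (j + 1)) := {x | x.1 ∉ U.1}
  have hSx : Sx.Finite := finite_outside U.2.1
  let B : Set X.scheme := ⋃ p ∈ {p ∈ Sx ×ˢ Sx | p.1 ≠ p.2},
    closure ({p.1.1} : Set X.scheme) ∩ closure {p.2.1}
  have hB : IsClosed B := ((hSx.prod hSx).subset fun _ h => h.1).isClosed_biUnion
    fun _ _ => isClosed_closure.inter isClosed_closure
  have hBc : ∀ y ∈ B, j + 1 < WeilCoh.codim X.scheme y ∧ y ∉ U.1 := by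
    intro y hy
    obtain ⟨p, ⟨⟨h1, h2⟩, hne⟩, hy1, hy2⟩ := Set.mem_iUnion₂.1 hy
    rw [← specializes_iff_mem_closure] at hy1 hy2
    refine ⟨?_, fun h => h1 (hy1.mem_open U.1.isOpen h)⟩
    rw [← p.1.2]
    refine lt_of_le_of_ne (codim_le_of_specializes X hy1) fun h => hne (Subtype.ext ?_)
    have e1 := eq_of_specializes_of_codim hy1 h.ge
    have e2 := eq_of_specializes_of_codim hy2 (by rw [← h, p.1.2, p.2.2])
    exact e1.trans e2.symm
  let O : X.scheme.Opens := avoid E hE ⊓ ⟨Bᶜ, hB.isOpen_compl⟩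
  have hO : ContainsFj X (j + 1) O := by
    intro y hy
    refine ⟨mem_avoid.2 fun g hg hgy => ?_, fun hyB => ?_⟩
    · have := hgt g (hGC hg.1)
      have := hg.2
      have := codim_le_of_specializes X hgy
      omega
    · have := (hBc y hyB).1
      omega
  refine ⟨⟨U, fjIdx O hO, fun y hy => ⟨mem_avoid.2 fun g hg hgy => ?_, fun hyB => ?_⟩,
    fun y hyO hyU => ?_, fun x x' y hyO hx hx' hxy hx'y => ?_⟩, rfl⟩
  · exact (hsub.stableUnderSpecialization hgy (hGC hg.1)) hy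
  · exact (hBc y hyB).2 hy
  · obtain ⟨g, hg, hgy⟩ := hG y hyU
    have hc : WeilCoh.codim X.scheme g = j + 1 := by
      by_contra h; exact mem_avoid.1 hyO.1 g ⟨hg, h⟩ hgy
    exact ⟨⟨g, hc⟩, hGC hg, hgy⟩
  · by_contra hne
    exact hyO.2 (Set.mem_iUnion₂.2
      ⟨(x, x'), ⟨⟨hx, hx'⟩, hne⟩, hxy.mem_closure, hx'y.mem_closure⟩)

namespace Stratum

variable (S : Stratum X j)

/-- The points of codimension `j + 1` outside the smaller open. -/
abbrev Gen : Type u := {x : X.cdPt (j + 1) // x.1 ∉ S.U.1}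

instance : Finite S.Gen := (finite_outside S.U.2.1).to_subtype

noncomputable instance : Fintype S.Gen := Fintype.ofFinite _

theorem mem_O (x : X.cdPt (j + 1)) : x.1 ∈ S.O.1 := S.O.2.1 x.1 x.2.le

/-- The piece of the closure of a point of codimension `j + 1`. -/
noncomputable abbrev pc (x : X.cdPt (j + 1)) : ptIdx X x.1 := piece S.O.1 x.1 (S.mem_O x)

/-- Shrink a stratum to a smaller open containing `F_(j+1)`. -/
def restrict (O₁ : Idx X (ContainsFj X (j + 1))) : Stratum X j where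
  U := fjIdx (S.U.1 ⊓ O₁.1)
    (fun y hy => ⟨S.U.2.1 y hy, containsFj_mono X (Nat.le_succ j) _ O₁.2.1 y hy⟩)
  O := fjIdx (S.O.1 ⊓ O₁.1) (fun y hy => ⟨S.O.2.1 y hy, O₁.2.1 y hy⟩)
  le := inf_le_inf_right _ S.le
  cover y hy hyU := by
    obtain ⟨x, hx, hxy⟩ := S.cover y hy.1 fun h => hyU ⟨h, hy.2⟩
    exact ⟨x, fun h => hx h.1, hxy⟩
  disj x x' y hy hx hx' :=
    S.disj x x' y hy.1 (fun h => hx ⟨h, O₁.2.1 x.1 x.2.le⟩)
      (fun h => hx' ⟨h, O₁.2.1 x'.1 x'.2.le⟩)

theorem restrict_U_le (O₁ : Idx X (ContainsFj X (j + 1))) : (S.restrict O₁).U.1 ≤ S.U.1 :=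
  inf_le_left

theorem restrict_O_le (O₁ : Idx X (ContainsFj X (j + 1))) : (S.restrict O₁).O.1 ≤ S.O.1 :=
  inf_le_left

theorem restrict_O_le' (O₁ : Idx X (ContainsFj X (j + 1))) : (S.restrict O₁).O.1 ≤ O₁.1 :=
  inf_le_right

theorem restrict_pc_le (O₁ : Idx X (ContainsFj X (j + 1))) (x : X.cdPt (j + 1)) :
    ((S.restrict O₁).pc x).1 ≤ (S.pc x).1 :=
  piece_mono (S.restrict_O_le O₁) x.1 ((S.restrict O₁).mem_O x)

/-- A point outside the smaller open stays one after shrinking. -/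
@[reducible] def genRes (O₁ : Idx X (ContainsFj X (j + 1))) (x : S.Gen) : (S.restrict O₁).Gen :=
  ⟨x.1, fun h => x.2 h.1⟩

/-- The points outside the smaller open do not change by shrinking. -/
@[reducible] def genUnres (O₁ : Idx X (ContainsFj X (j + 1))) (x : (S.restrict O₁).Gen) : S.Gen :=
  ⟨x.1, fun h => x.2 ⟨h, O₁.2.1 x.1.1 x.1.2.le⟩⟩

/-- The closed complement of the smaller open inside the larger one. -/
noncomputable def closedC : Closeds ↥(X.res S.O.1).scheme :=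
  ⟨S.O.1.ι ⁻¹' (S.U.1 : Set X.scheme)ᶜ, S.U.1.isOpen.isClosed_compl.preimage S.O.1.ι.continuous⟩

/-- The closed part, with its reduced structure. -/
noncomputable abbrev Z : Obj V :=
  ⟨(Scheme.IdealSheafData.vanishingIdeal (X := (X.res S.O.1).scheme) S.closedC).subscheme,
    IsConstructible.of_isClosedImmersion
      (Scheme.IdealSheafData.vanishingIdeal (X := (X.res S.O.1).scheme) S.closedC).subschemeι
      (h := inferInstance) (X.res S.O.1).mem⟩

/-- The closed immersion of the closed part. -/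
noncomputable abbrev zi : S.Z.scheme ⟶ (X.res S.O.1).scheme :=
  (Scheme.IdealSheafData.vanishingIdeal (X := (X.res S.O.1).scheme) S.closedC).subschemeι

instance : IsReduced S.Z.scheme := H75.RedSub.isReduced_vanishingIdeal _

theorem range_zi : Set.range S.zi = S.O.1.ι ⁻¹' (S.U.1 : Set X.scheme)ᶜ := by
  rw [Scheme.IdealSheafData.range_subschemeι, Scheme.IdealSheafData.coe_support_vanishingIdeal]
  rfl

theorem range_homOfLE {U U' : X.scheme.Opens} (h : U ≤ U') :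
    Set.range (X.scheme.homOfLE h) = U'.ι ⁻¹' (U : Set X.scheme) := by
  have := Set.preimage_image_eq (Set.range (X.scheme.homOfLE h)) U'.ι.isOpenEmbedding.injective
  rw [← this, ← Set.range_comp, ← TopCat.coe_comp, ← Scheme.Hom.comp_base, Scheme.homOfLE_ι,
    Scheme.Opens.range_ι]

/-- The decomposition of the larger open. -/
noncomputable abbrev D : Decomp (X.res S.O.1) where
  Z := S.Z
  U := X.res S.U.1
  i := S.zi
  closedImm := inferInstance
  j := X.resLE S.le (S.U.2.2.trans S.O.2.2.symm)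
  range_eq := by
    rw [S.range_zi]
    refine (range_homOfLE S.le).trans ?_
    rw [Set.preimage_compl, compl_compl]

theorem dim_Z (x : S.Gen) : WeilCoh.dim S.Z.scheme = WeilCoh.pdim X.scheme x.1.1 := by
  refine dim_closed_eq (X := X.res S.O.1) S.zi (fun y hy => ?_) ⟨⟨x.1.1, S.mem_O x.1⟩, ?_, ?_⟩
  · rw [range_zi] at hy
    rw [← pdim_opens S.O.1 y]
    have h1 : j < WeilCoh.codim X.scheme (S.O.1.ι y) := by
      by_contra h; exact hy (S.U.2.1 _ (not_lt.1 h))
    have h2 := codim_add_pdim X (S.O.1.ι y)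
    have h3 := codim_add_pdim X x.1.1
    have h4 := x.1.2
    omega
  · rw [range_zi]; exact x.2
  · exact (pdim_opens S.O.1 ⟨x.1.1, S.mem_O x.1⟩).symm

theorem dim_pc_eq (x : S.Gen) :
    WeilCoh.dim ((X.ptSub x.1.1).res (S.pc x.1).1).scheme = WeilCoh.dim S.Z.scheme :=
  (dim_ptSub_open X x.1.1 _ (S.pc x.1).2.1).trans (S.dim_Z x).symm

theorem codim_D (x : S.Gen) : S.D.codim = (j : ℤ) + 1 := by
  have h1 := S.dim_Z x
  have h2 := codim_add_pdim X x.1.1
  have h3 : WeilCoh.dim (X.res S.O.1).scheme = WeilCoh.dim X.scheme := S.O.2.2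
  have h4 := x.1.2
  change (WeilCoh.dim (X.res S.O.1).scheme : ℤ) - (WeilCoh.dim S.Z.scheme : ℤ) = _
  omega

theorem range_pieceMor (x : X.cdPt (j + 1)) :
    Set.range (pieceMor S.O.1 x.1 (S.mem_O x)) = S.O.1.ι ⁻¹' closure ({x.1} : Set X.scheme) := by
  have := Set.preimage_image_eq (Set.range (pieceMor S.O.1 x.1 (S.mem_O x)))
    S.O.1.ι.isOpenEmbedding.injective
  rw [← this, ← Set.range_comp, ← TopCat.coe_comp, ← Scheme.Hom.comp_base, pieceMor_ι, image_piece]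
  exact Set.ext fun y => ⟨fun h => h.1, fun h => ⟨h, y.2⟩⟩

theorem exists_gmor (x : S.Gen) :
    ∃ g : (X.ptSub x.1.1).res (S.pc x.1).1 ⟶ S.Z, g.hom ≫ S.zi = pieceMor S.O.1 x.1.1 (S.mem_O x.1) := by
  let others : Set X.scheme := (fun y : S.Gen => y.1.1) '' {y | y ≠ x}
  have ho : others.Finite := (Set.toFinite _).image _
  refine exists_openHom (pieceMor S.O.1 x.1.1 (S.mem_O x.1)) S.zi (S.O.1.ι ⁻¹ᵁ avoid others ho) ?_
    (S.dim_pc_eq x)
  rw [range_pieceMor, range_zi]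
  ext y
  constructor
  · intro h
    have hx : x.1.1 ⤳ S.O.1.ι y := specializes_iff_mem_closure.2 h
    refine ⟨fun hy => x.2 (hx.mem_open S.U.1.isOpen hy), (mem_avoid (hs := ho)).2 ?_⟩
    rintro _ ⟨x', hne, rfl⟩ hx'
    exact hne (Subtype.ext (S.disj x'.1 x.1 _ y.2 x'.2 x.2 hx' hx))
  · rintro ⟨hy, ha⟩
    obtain ⟨x', hx', hxy⟩ := S.cover _ y.2 hy
    by_cases h : (⟨x', hx'⟩ : S.Gen) = x
    · subst h; exact hxy.mem_closure
    · exact absurd hxy ((mem_avoid (hs := ho)).1 ha x' ⟨⟨x', hx'⟩, h, rfl⟩)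

/-- The inclusion of a piece into the closed part. -/
noncomputable def gmor (x : S.Gen) : (X.ptSub x.1.1).res (S.pc x.1).1 ⟶ S.Z :=
  (S.exists_gmor x).choose

theorem gmor_fac (x : S.Gen) : (S.gmor x).hom ≫ S.zi = pieceMor S.O.1 x.1.1 (S.mem_O x.1) :=
  (S.exists_gmor x).choose_spec

theorem gmor_zi_ι (x : S.Gen) :
    (S.gmor x).hom ≫ S.zi ≫ S.O.1.ι = (S.pc x.1).1.ι ≫ X.ptSubι x.1.1 := by
  rw [← Category.assoc, gmor_fac, pieceMor_ι]

instance (x : S.Gen) : IsClosedImmersion (S.gmor x).hom := by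
  have : IsClosedImmersion ((S.gmor x).hom ≫ S.zi) := by rw [gmor_fac]; infer_instance
  exact IsClosedImmersion.of_comp (S.gmor x).hom S.zi

theorem zi_mem (x : S.Gen) {z : S.Z.scheme} :
    z ∈ Set.range (S.gmor x).hom ↔ x.1.1 ⤳ S.O.1.ι (S.zi z) := by
  rw [specializes_iff_mem_closure,
    ← Set.mem_preimage (f := S.O.1.ι) (s := closure ({x.1.1} : Set X.scheme)),
    ← range_pieceMor, ← gmor_fac, Scheme.Hom.comp_base, TopCat.coe_comp, Set.range_comp]
  exact (S.zi.isClosedEmbedding.injective.mem_set_image).symm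

theorem gmor_disjoint :
    Pairwise fun x y : S.Gen => Disjoint (Set.range (S.gmor x).hom) (Set.range (S.gmor y).hom) :=
  fun x y hne => Set.disjoint_left.2 fun z hx hy => hne (Subtype.ext
    (S.disj x.1 y.1 _ (S.zi z).2 x.2 y.2 ((S.zi_mem x).1 hx) ((S.zi_mem y).1 hy)))

theorem gmor_cover (z : S.Z.scheme) : ∃ x : S.Gen, z ∈ Set.range (S.gmor x).hom := by
  have h : S.zi z ∈ S.O.1.ι ⁻¹' (S.U.1 : Set X.scheme)ᶜ := S.range_zi ▸ ⟨z, rfl⟩
  obtain ⟨x, hx, hxy⟩ := S.cover _ (S.zi z).2 h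
  exact ⟨⟨x, hx⟩, (S.zi_mem _).2 hxy⟩

theorem exists_resZ (O₁ : Idx X (ContainsFj X (j + 1))) (x : S.Gen) :
    ∃ g : (S.restrict O₁).Z ⟶ S.Z,
      g.hom ≫ S.zi = (S.restrict O₁).zi ≫ (rle (S.restrict_O_le O₁)).hom := by
  refine exists_openHom ((S.restrict O₁).zi ≫ (rle (S.restrict_O_le O₁)).hom) S.zi
    (S.O.1.ι ⁻¹ᵁ O₁.1) ?_ ?_
  · refine (Set.preimage_image_eq _ S.O.1.ι.isOpenEmbedding.injective).symm.trans ?_
    have h1 : S.O.1.ι '' Set.range ((S.restrict O₁).zi ≫ (rle (S.restrict_O_le O₁)).hom) =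
        (S.restrict O₁).O.1.ι '' Set.range (S.restrict O₁).zi := by
      rw [← Set.range_comp, ← Set.range_comp, ← TopCat.coe_comp, ← TopCat.coe_comp,
        ← Scheme.Hom.comp_base, ← Scheme.Hom.comp_base, Category.assoc]
      exact congrArg (fun f : _ ⟶ X.scheme => Set.range f)
        (congrArg ((S.restrict O₁).zi ≫ ·) (X.scheme.homOfLE_ι (S.restrict_O_le O₁)))
    rw [h1, range_zi, range_zi]
    ext y
    constructor
    · rintro ⟨q, hq, hqy⟩
      have h3 : (S.restrict O₁).O.1.ι q = S.O.1.ι y := hqy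
      refine ⟨fun hU => hq ?_, ?_⟩
      · exact show (S.restrict O₁).O.1.ι q ∈ S.U.1.1 ⊓ O₁.1.1 from
          ⟨h3 ▸ hU, S.restrict_O_le' O₁ q.2⟩
      · exact show S.O.1.ι y ∈ O₁.1 from h3 ▸ S.restrict_O_le' O₁ q.2
    · rintro ⟨hU, hO⟩
      exact ⟨⟨S.O.1.ι y, y.2, hO⟩, fun h => hU h.1, rfl⟩
  · rw [S.dim_Z x, (S.restrict O₁).dim_Z (S.genRes O₁ x)]

end Stratum

end Groth.Agent.Lib.BMTheory
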