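import Groth.Agent.Lib.BMTheory.Stratum

/-!
The Gysin sequence of a stratum, read on the pieces, and its consequences in the colimits.
-/

set_option autoImplicit false
set_option linter.unusedSectionVars false

universe u

open AlgebraicGeometry CategoryTheory CategoryTheory.Limits Opposite TopologicalSpace Topology

namespace Groth.Agent.Lib.BMTheory

open BMCoh

variable {V : ObjectProperty Scheme.{u}} [IsConstructible V]
variable {R : Type u} [CommRing R] {A : Coefs R} (T : PreTheory V R A) (M : A.Cat)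
variable {X : Obj V} {j : ℕ}

/-- The push-forward index equations of a shift by a natural number. -/
theorem eq_codim_shift {j : ℕ} {i p : ℤ} (h : p = i + 2 * ((j + 1 : ℕ) : ℤ)) :
    i = p - 2 * ((j : ℤ) + 1) := by
  push_cast at h; omega

/-- Morphisms between opens over `X` are unique. -/
theorem res_hom_ext {U U' : X.scheme.Opens} (a b : X.res U ⟶ X.res U')
    (ha : a.hom ≫ U'.ι = U.ι) (hb : b.hom ≫ U'.ι = U.ι) : a = b :=
  hom_eq_of_comp_ι (ha.trans hb.symm)

namespace Stratum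

variable (S : Stratum X j)

/-- The residue of a class on the smaller open, at the piece of a point outside it. -/
noncomputable def comp (x : S.Gen) {i n i' n' : ℤ} (hi : i' = i + 1 - 2 * ((j : ℤ) + 1))
    (hn : n' = n - ((j : ℤ) + 1)) :
    T.gp (X.res S.U.1) M i n ⟶ T.gp ((X.ptSub x.1.1).res (S.pc x.1).1) M i' n' :=
  T.res S.D M i n i' n' (by rw [S.codim_D x]; exact hi) (by rw [S.codim_D x]; exact hn) ≫
    T.pull (S.gmor x) M i' n'

theorem comp_apply (x : S.Gen) {i n i' n' : ℤ} (hi : i' = i + 1 - 2 * ((j : ℤ) + 1))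
    (hn : n' = n - ((j : ℤ) + 1)) (hiD : i' = i + 1 - 2 * S.D.codim) (hnD : n' = n - S.D.codim)
    (b : T.gp (X.res S.U.1) M i n) :
    (comp T M S x hi hn).hom b =
      (T.pull (S.gmor x) M i' n').hom ((T.res S.D M i n i' n' hiD hnD).hom b) := rfl

/-- The residue data compute the residues of a stratum. -/
theorem resData_cpt (Q : T.ResData X j) (x : S.Gen) {i n i' n' : ℤ}
    (hi : i' = i + 1 - 2 * ((j : ℤ) + 1)) (hn : n' = n - ((j : ℤ) + 1))
    (b : T.gp (X.res S.U.1) M i n) :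
    (Q.cpt x.1 M i n i' n' hi hn).hom (((T.fjι X j i n S.U).app M).hom b) =
      ((T.ptι X x.1.1 i' n' (S.pc x.1)).app M).hom ((comp T M S x hi hn).hom b) := by
  have h := Q.cpt_spec x.1 M i n i' n' hi hn (X.resι S.O.1 S.O.2.2) S.D (S.pc x.1) (S.gmor x)
    (S.gmor_zi_ι x) S.U (𝟙 (X.res S.U.1))
    ((Category.id_comp _).trans (X.scheme.homOfLE_ι S.le))
    (by rw [S.codim_D x]; exact hi) (by rw [S.codim_D x]; exact hn)
  have h1 := ConcreteCategory.congr_hom h b
  rw [pull_id] at h1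
  exact h1

theorem exists_genMap (O₁ : Idx X (ContainsFj X (j + 1))) (x : S.Gen) {i n i' n' : ℤ}
    (hi : i' = i + 1 - 2 * ((j : ℤ) + 1)) (hn : n' = n - ((j : ℤ) + 1))
    (b : T.gp (X.res S.U.1) M i n) :
    (comp T M (S.restrict O₁) (S.genRes O₁ x) hi hn).hom
        ((T.pull (rle (S.restrict_U_le O₁)) M i n).hom b) =
      (T.pull (rle (S.restrict_pc_le O₁ x.1)) M i' n').hom ((comp T M S x hi hn).hom b) := by
  obtain ⟨g, hg⟩ := S.exists_resZ O₁ x
  have hD : i' = i + 1 - 2 * S.D.codim := by rw [S.codim_D x]; exact hi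
  have hD' : n' = n - S.D.codim := by rw [S.codim_D x]; exact hn
  have hE : i' = i + 1 - 2 * (S.restrict O₁).D.codim := by
    rw [(S.restrict O₁).codim_D (S.genRes O₁ x)]; exact hi
  have hE' : n' = n - (S.restrict O₁).D.codim := by
    rw [(S.restrict O₁).codim_D (S.genRes O₁ x)]; exact hn
  have h := ConcreteCategory.congr_hom (T.res_pull S.D (S.restrict O₁).D
    (rle (S.restrict_O_le O₁)) g (rle (S.restrict_U_le O₁)) hg
    (res_hom_ext _ _ (by simp [rle, Obj.resLE]) (by simp [rle, Obj.resLE]))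
    M i n i' n' hD hD' hE hE') b
  change (T.pull g M i' n').hom _ = (T.res (S.restrict O₁).D M i n i' n' hE hE').hom _ at h
  rw [comp_apply T M (S.restrict O₁) _ hi hn hE hE']
  erw [← h]
  rw [comp_apply T M S x hi hn hD hD', pull_pull, pull_pull]
  have e : (S.restrict O₁).gmor (S.genRes O₁ x) ≫ g =
      rle (S.restrict_pc_le O₁ x.1) ≫ S.gmor x := by
    refine Hom.ext ((cancel_mono S.zi).1 ?_)
    rw [comp_hom, comp_hom, Category.assoc, Category.assoc, hg, ← Category.assoc, gmor_fac,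
      gmor_fac]
    exact (isPullback_pieceMor (S.restrict_O_le O₁) x.1.1 ((S.restrict O₁).mem_O x.1)).w.symm
  exact congrArg (fun f => (T.pull f M i' n').hom _) e

theorem sum_pushPiece_eq (x₀ : S.Gen) {i n p m : ℤ} (hp : p = i + 2 * ((j + 1 : ℕ) : ℤ))
    (hm : m = n + ((j + 1 : ℕ) : ℤ)) (hp' : p = i + 2 * relCodim S.Z.scheme (X.res S.O.1).scheme)
    (hm' : m = n + relCodim S.Z.scheme (X.res S.O.1).scheme) (r : T.gp S.Z M i n) :
    (T.push S.zi M i n p m hp' hm').hom r =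
      ∑ x : S.Gen, (pushPiece T M S.O x.1.1 (S.mem_O x.1) x.1.2 hp hm).hom
        ((T.pull (S.gmor x) M i n).hom r) := by
  conv_lhs => rw [eq_sum_pushHom T M S.gmor S.gmor_disjoint S.gmor_cover r]
  rw [map_sum]
  refine Finset.sum_congr rfl fun x _ => ?_
  have hc : ∀ (hp'' : p = i + 2 * relCodim ((X.ptSub x.1.1).res (S.pc x.1).1).scheme
      (X.res S.O.1).scheme) (hm'' : m = n + relCodim ((X.ptSub x.1.1).res (S.pc x.1).1).scheme
      (X.res S.O.1).scheme),
      pushHom T M (S.gmor x) i n ≫ T.push S.zi M i n p m hp' hm' =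
        T.push (pieceMor S.O.1 x.1.1 (S.mem_O x.1)) M i n p m hp'' hm'' := by
    intro hp'' hm''
    rw [pushHom, T.push_comp (S.gmor x).hom S.zi M i n i n p m _ _ hp' hm' hp'' hm'']
    exact push_congr T M (S.gmor_fac x) _ _
  exact ConcreteCategory.congr_hom (hc _ _) _

/-- A class on the larger open dying on the smaller one is a sum of push-forwards from the pieces. -/
theorem exists_sum_push {p m i n : ℤ} (hp : p = i + 2 * ((j + 1 : ℕ) : ℤ))
    (hm : m = n + ((j + 1 : ℕ) : ℤ)) (c : T.gp (X.res S.O.1) M p m)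
    (hc : (T.pull S.D.j M p m).hom c = 0) (x₀ : S.Gen) :
    ∃ d : ∀ x : S.Gen, T.gp ((X.ptSub x.1.1).res (S.pc x.1).1) M i n,
      c = ∑ x : S.Gen, (pushPiece T M S.O x.1.1 (S.mem_O x.1) x.1.2 hp hm).hom (d x) := by
  have h := S.codim_D x₀
  have hp' : p = i + 2 * relCodim S.Z.scheme (X.res S.O.1).scheme := by
    rw [show relCodim S.Z.scheme (X.res S.O.1).scheme = (j : ℤ) + 1 from h]
    push_cast at hp; exact hp
  have hm' : m = n + relCodim S.Z.scheme (X.res S.O.1).scheme := by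
    rw [show relCodim S.Z.scheme (X.res S.O.1).scheme = (j : ℤ) + 1 from h]
    push_cast at hm; exact hm
  obtain ⟨r, rfl⟩ := (pull_eq_zero_iff T M S.D hp' hm' c).1 hc
  exact ⟨_, sum_pushPiece_eq T M S x₀ hp hm hp' hm' r⟩

/-- The push-forwards of the residues of a class sum to zero. -/
theorem sum_push_comp (x₀ : S.Gen) {i n i' n' : ℤ} (hi : i' = i + 1 - 2 * ((j : ℤ) + 1))
    (hn : n' = n - ((j : ℤ) + 1)) (hp : i + 1 = i' + 2 * ((j + 1 : ℕ) : ℤ))
    (hm : n = n' + ((j + 1 : ℕ) : ℤ)) (b : T.gp (X.res S.U.1) M i n) :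
    ∑ x : S.Gen, (pushPiece T M S.O x.1.1 (S.mem_O x.1) x.1.2 hp hm).hom
        ((comp T M S x hi hn).hom b) = 0 := by
  have h : relCodim S.Z.scheme (X.res S.O.1).scheme = (j : ℤ) + 1 := S.codim_D x₀
  have hD : i' = i + 1 - 2 * S.D.codim := by rw [S.codim_D x₀]; exact hi
  have hD' : n' = n - S.D.codim := by rw [S.codim_D x₀]; exact hn
  have hp' : i + 1 = i' + 2 * relCodim S.Z.scheme (X.res S.O.1).scheme := by rw [h]; omega
  have hm' : n = n' + relCodim S.Z.scheme (X.res S.O.1).scheme := by rw [h]; omega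
  exact (sum_pushPiece_eq T M S x₀ hp hm hp' hm' _).symm.trans
    (push_res T M S.D hD hD' hp' hm' b)

/-- Classes on the pieces whose push-forwards sum to zero are the residues of a class. -/
theorem exists_comp_eq (x₀ : S.Gen) {i n i' n' : ℤ} (hi : i' = i + 1 - 2 * ((j : ℤ) + 1))
    (hn : n' = n - ((j : ℤ) + 1)) (hp : i + 1 = i' + 2 * ((j + 1 : ℕ) : ℤ))
    (hm : n = n' + ((j + 1 : ℕ) : ℤ))
    (d : ∀ x : S.Gen, T.gp ((X.ptSub x.1.1).res (S.pc x.1).1) M i' n')
    (hd : ∑ x : S.Gen, (pushPiece T M S.O x.1.1 (S.mem_O x.1) x.1.2 hp hm).hom (d x) = 0) :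
    ∃ b : T.gp (X.res S.U.1) M i n, ∀ x, (comp T M S x hi hn).hom b = d x := by
  have h : relCodim S.Z.scheme (X.res S.O.1).scheme = (j : ℤ) + 1 := S.codim_D x₀
  have hD : i' = i + 1 - 2 * S.D.codim := by rw [S.codim_D x₀]; exact hi
  have hD' : n' = n - S.D.codim := by rw [S.codim_D x₀]; exact hn
  have hp' : i + 1 = i' + 2 * relCodim S.Z.scheme (X.res S.O.1).scheme := by rw [h]; omega
  have hm' : n = n' + relCodim S.Z.scheme (X.res S.O.1).scheme := by rw [h]; omega
  let r : T.gp S.Z M i' n' := ∑ x : S.Gen, (pushHom T M (S.gmor x) i' n').hom (d x)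
  have hr : ∀ x, (T.pull (S.gmor x) M i' n').hom r = d x := fun x =>
    pull_sum_pushHom T M S.gmor S.gmor_disjoint d x
  have h0 : (T.push S.zi M i' n' (i + 1) n hp' hm').hom r = 0 := by
    rw [sum_pushPiece_eq T M S x₀ hp hm hp' hm' r]
    simp only [hr]
    exact hd
  obtain ⟨b, hb⟩ := exists_res_eq T M S.D hD hD' hp' hm' h0
  exact ⟨b, fun x => by rw [comp_apply T M S x hi hn hD hD', hb, hr]⟩

end Stratum

theorem ι_fjRes {k k' : ℕ} (h : k ≤ k') (O : Idx X (ContainsFj X k')) {i n : ℤ}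
    (a : T.gp (X.res O.1) M i n) :
    ((T.fjRes X h i n).app M).hom (((T.fjι X k' i n O).app M).hom a) =
      ((T.fjι X k i n ⟨O.1, containsFj_mono X h _ O.2.1, O.2.2⟩).app M).hom a :=
  ι_ocolimMap T M i n _ O a

/-- A class on the larger open of a stratum, restricted to `F_j`, only depends on the smaller one. -/
theorem Stratum.ι_pull_D (S : Stratum X j) {i n : ℤ} (c : T.gp (X.res S.O.1) M i n) :
    ((T.fjι X j i n S.U).app M).hom ((T.pull S.D.j M i n).hom c) =
      ((T.fjRes X (Nat.le_succ j) i n).app M).hom (((T.fjι X (j + 1) i n S.O).app M).hom c) := by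
  rw [ι_fjRes]
  exact ι_rle_apply T M i n (X := X) (P := ContainsFj X j)
    (U := ⟨S.O.1, containsFj_mono X (Nat.le_succ j) _ S.O.2.1, S.O.2.2⟩) (U' := S.U) S.le c

/-- A class whose residues vanish extends. -/
theorem exists_extend {i n i' n' : ℤ} (hi : i' = i + 1 - 2 * ((j : ℤ) + 1))
    (hn : n' = n - ((j : ℤ) + 1)) (S : Stratum X j) (b : T.gp (X.res S.U.1) M i n)
    (h : ∀ x : S.Gen,
      ((T.ptι X x.1.1 i' n' (S.pc x.1)).app M).hom ((Stratum.comp T M S x hi hn).hom b) = 0) :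
    ∃ a : T.fjGp X (j + 1) M i n,
      ((T.fjRes X (Nat.le_succ j) i n).app M).hom a = ((T.fjι X j i n S.U).app M).hom b := by
  rcases isEmpty_or_nonempty S.Gen with he | ⟨⟨x₀⟩⟩
  · have hU : ContainsFj X (j + 1) S.U.1 :=
      containsFj_succ_of_forall_mem S.U.2.1 fun x => by
        by_contra hx; exact he.false ⟨x, hx⟩
    exact ⟨((T.fjι X (j + 1) i n ⟨S.U.1, hU, S.U.2.2⟩).app M).hom b, ι_fjRes T M _ ⟨S.U.1, hU, S.U.2.2⟩ b⟩
  choose W hW hW0 using fun x : S.Gen => (ocolim_eq_zero_iff T M i' n' _).1 (h x)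
  obtain ⟨O₁, hO₁⟩ := exists_open_cuts (X := X) (j := j + 1) (fun x : S.Gen => x.1.1)
    (fun x => x.1.2.ge) W
  let S' := S.restrict O₁
  have hD : i' = i + 1 - 2 * S'.D.codim := by rw [S'.codim_D (S.genRes O₁ x₀)]; exact hi
  have hD' : n' = n - S'.D.codim := by rw [S'.codim_D (S.genRes O₁ x₀)]; exact hn
  have h0 : (T.res S'.D M i n i' n' hD hD').hom ((T.pull (rle (S.restrict_U_le O₁)) M i n).hom b)
      = 0 := by
    refine eq_zero_of_pull_family T M S'.gmor S'.gmor_disjoint S'.gmor_cover _ fun x => ?_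
    rw [← Stratum.comp_apply T M S' x hi hn hD hD']
    have hx := Stratum.exists_genMap T M S O₁ (S.genUnres O₁ x) hi hn b
    refine hx.trans ?_
    have hle : ((S.restrict O₁).pc x.1).1 ≤ (W (S.genUnres O₁ x)).1 :=
      piece_le_of_le_cutOpen ((S.restrict_O_le' O₁).trans (hO₁ (S.genUnres O₁ x))) _
    have e := pull_rle_rle T M (hW (S.genUnres O₁ x)) hle
      ((Stratum.comp T M S (S.genUnres O₁ x) hi hn).hom b)
    refine Eq.trans e.symm ?_
    rw [hW0 (S.genUnres O₁ x)]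
    exact map_zero _
  obtain ⟨c, hc⟩ := (res_eq_zero_iff T M S'.D hD hD' _).1 h0
  refine ⟨((T.fjι X (j + 1) i n S'.O).app M).hom c, ?_⟩
  rw [← S'.ι_pull_D T M c, hc]
  exact ι_rle_apply T M i n (S.restrict_U_le O₁) b

/-- A class of `F_(j+1)` dying in `F_j` comes from the pieces of a stratum. -/
theorem exists_stratum_sum_push {p m i n : ℤ} (hp : p = i + 2 * ((j + 1 : ℕ) : ℤ))
    (hm : m = n + ((j + 1 : ℕ) : ℤ)) (a : T.fjGp X (j + 1) M p m)
    (ha : ((T.fjRes X (Nat.le_succ j) p m).app M).hom a = 0) :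
    ∃ (S : Stratum X j) (d : ∀ x : S.Gen, T.gp ((X.ptSub x.1.1).res (S.pc x.1).1) M i n),
      a = ((T.fjι X (j + 1) p m S.O).app M).hom
        (∑ x : S.Gen, (pushPiece T M S.O x.1.1 (S.mem_O x.1) x.1.2 hp hm).hom (d x)) := by
  obtain ⟨U', c, rfl⟩ := ocolim_exists_rep T M p m a
  rw [ι_fjRes] at ha
  obtain ⟨U, hU, hU0⟩ := (ocolim_eq_zero_iff T M p m (P := ContainsFj X j)
    (U := ⟨U'.1, containsFj_mono X (Nat.le_succ j) _ U'.2.1, U'.2.2⟩) c).1 ha
  obtain ⟨S, hS⟩ := exists_stratum U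
  let S' := S.restrict U'
  let c' := (T.pull (rle (S.restrict_O_le' U')) M p m).hom c
  have hc' : (T.pull S'.D.j M p m).hom c' = 0 := by
    have hle : S'.U.1 ≤ U.1 := (S.restrict_U_le U').trans (hS ▸ le_rfl)
    have e : (T.pull S'.D.j M p m).hom c' =
        (T.pull (rle (P := ContainsFj X j) (U' := S'.U) hle) M p m).hom
          ((T.pull (rle hU) M p m).hom c) := by
      refine (pull_pull T _ _ M p m c).trans (Eq.trans ?_ (pull_pull T _ _ M p m c).symm)
      exact congrArg (fun f => (T.pull f M p m).hom c)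
        (res_hom_ext _ _ (by simp [rle, Obj.resLE]) (by simp [rle, Obj.resLE]))
    rw [e, hU0, map_zero]
  rcases isEmpty_or_nonempty S'.Gen with he | ⟨⟨x₀⟩⟩
  · refine ⟨S', fun x => 0, ?_⟩
    simp only [map_zero, Finset.sum_const_zero]
    refine (ocolim_eq_zero_iff T M p m c).2 ⟨⟨S'.U.1, containsFj_succ_of_forall_mem S'.U.2.1
      (fun x => by_contra fun hx => he.false ⟨x, hx⟩), S'.U.2.2⟩,
      inf_le_right, ?_⟩
    rw [← hc']
    exact Eq.trans (congrArg (fun f => (T.pull f M p m).hom c)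
      (res_hom_ext _ (S'.D.j ≫ rle (S.restrict_O_le' U'))
        (by simp [rle, Obj.resLE]) (by simp [rle, Obj.resLE])))
      (pull_pull T S'.D.j (rle (S.restrict_O_le' U')) M p m c).symm
  obtain ⟨d, hd⟩ := S'.exists_sum_push T M hp hm c' hc' x₀
  exact ⟨S', d, by rw [← hd]; exact (ι_rle_apply T M p m (S.restrict_O_le' U') c).symm⟩

end Groth.Agent.Lib.BMTheory
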